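import Cfsg.Agent.FusTransfer.Graph

/-!
A finite `S × S`-set whose point stabilizers are graphs of maps of the saturated system, stable on
the left, with number of right orbits prime to `p`.
-/

set_option autoImplicit false
set_option linter.style.haveILetI false

namespace Cfsg.Agent.FusTransfer

open Cfsg Cfsg.Agent.Fusion Cfsg.Agent.Fus93
open Cfsg.FusionSystem (normalizerIn)

universe u

/-! ### Transitive pieces -/

section Quot

variable {M : Type u} [Group M]

theorem relIndex_normalizer_map (g : M) (L : Subgroup M) :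
    (L.map (MulAut.conj g).toMonoidHom).relIndex
        (Subgroup.normalizer ((L.map (MulAut.conj g).toMonoidHom : Subgroup M) : Set M)) =
      L.relIndex (Subgroup.normalizer (L : Set M)) := by
  have h := ConjFunctor.cnj_nrm g L
  have h2 := ConjFunctor.relIndex_cnj g L (ConjFunctor.nrm L)
  rwa [h] at h2

theorem stabilizer_quotient_mk (K : Subgroup M) (g : M) :
    MulAction.stabilizer M (g : M ⧸ K) = K.map (MulAut.conj g).toMonoidHom := by
  ext m
  rw [MulAction.mem_stabilizer_iff, Subgroup.mem_map_equiv, MulAut.conj_symm_apply,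
    MulAction.Quotient.smul_coe, QuotientGroup.eq]
  constructor
  · intro h
    have := K.inv_mem h
    simpa [mul_assoc] using this
  · intro h
    have := K.inv_mem h
    simpa [mul_assoc] using this

theorem mark_quotient_self [Finite M] (K : Subgroup M) :
    mark (M ⧸ K) K = K.relIndex (Subgroup.normalizer (K : Set M)) := by
  have h : mark (M ⧸ K) K = Nat.card (MulAction.fixedPoints K (M ⧸ K)) :=
    Nat.card_congr (Equiv.subtypeEquivRight fun x => ⟨fun hx k => hx k k.2, fun hx l hl => hx ⟨l, hl⟩⟩)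
  rw [h, Nat.card_congr (Sylow.fixedPointsMulLeftCosetsEquivQuotient K)]
  rfl

end Quot

variable {Ω : Type u} [Group Ω] {S : Subgroup Ω} {F : FusionSystem S}

/-- The graphs of order `n`, up to conjugation. -/
def grSetoid (F : FusionSystem S) (n : ℕ) :
    Setoid {L : Subgroup (S × S) // L ∈ graphs F ∧ Nat.card L = n} where
  r L L' := ∃ m : S × S, L'.1 = L.1.map (MulAut.conj m).toMonoidHom
  iseqv :=
    { refl := fun L => ⟨1, (ConjFunctor.cnj_one L.1).symm⟩
      symm := fun {L L'} ⟨m, h⟩ => ⟨m⁻¹, by rw [h]; exact (ConjFunctor.cnj_inv_cnj m L.1).symm⟩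
      trans := fun {L L' L''} ⟨m, h⟩ ⟨m', h'⟩ => ⟨m' * m, by
        rw [h', h]; exact ConjFunctor.cnj_cnj m' m L.1⟩ }

/-- Adding orbits over classes of graphs of order `n`. -/
theorem exists_pieces [Finite S] (F : FusionSystem S) (n : ℕ) (c : Quotient (grSetoid F n) → ℕ) :
    ∃ (Z : Type u) (_ : MulAction (S × S) Z) (_ : Finite Z),
      (∀ z : Z, MulAction.stabilizer (S × S) z ∈ graphs F) ∧
      (∀ L : Subgroup (S × S), n < Nat.card L → mark Z L = 0) ∧
      (∀ L, mark Z L.1 = c (Quotient.mk (grSetoid F n) L) * L.1.relIndex (Subgroup.normalizer (L.1 : Set (S × S)))) ∧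
      Nat.card Z = (∑ᶠ q, c q) * (Nat.card (S × S) / n) := by
  classical
  haveI : Fintype (Quotient (grSetoid F n)) := Fintype.ofFinite _
  let Z := Σ q : Quotient (grSetoid F n), Fin (c q) × ((S × S) ⧸ q.out.1)
  letI : MulAction (S × S) Z :=
    { smul := fun m z => ⟨z.1, z.2.1, m • z.2.2⟩
      one_smul := fun ⟨q, i, x⟩ => by
        show (⟨q, i, (1 : S × S) • x⟩ : Z) = _
        rw [one_smul]
      mul_smul := fun m m' ⟨q, i, x⟩ => by
        show (⟨q, i, (m * m') • x⟩ : Z) = ⟨q, i, m • (m' • x)⟩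
        rw [mul_smul] }
  have hsm : ∀ (m : S × S) (q : Quotient (grSetoid F n)) (i : Fin (c q)) (x : (S × S) ⧸ q.out.1),
      m • (⟨q, i, x⟩ : Z) = ⟨q, i, m • x⟩ := fun _ _ _ _ => rfl
  have hstab : ∀ (q : Quotient (grSetoid F n)) (i : Fin (c q)) (g : S × S),
      MulAction.stabilizer (S × S) (⟨q, i, (g : (S × S) ⧸ q.out.1)⟩ : Z) =
        q.out.1.map (MulAut.conj g).toMonoidHom := by
    intro q i g
    rw [← stabilizer_quotient_mk]
    ext m
    rw [MulAction.mem_stabilizer_iff, MulAction.mem_stabilizer_iff, hsm]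
    exact ⟨fun h => congrArg Prod.snd (eq_of_heq (Sigma.mk.injEq .. ▸ h).2), fun h => by rw [h]⟩
  have hcard : ∀ (q : Quotient (grSetoid F n)) (g : S × S),
      Nat.card (q.out.1.map (MulAut.conj g).toMonoidHom) = n := fun q g => by
    rw [Subgroup.card_map_of_injective (MulAut.conj g).injective, q.out.2.2]
  refine ⟨Z, inferInstance, inferInstance, ?_, ?_, ?_, ?_⟩
  · rintro ⟨q, i, x⟩
    obtain ⟨g, rfl⟩ := QuotientGroup.mk_surjective x
    rw [hstab]
    exact graphs_conj q.out.2.1 g
  · intro L hL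
    by_contra h
    obtain ⟨⟨q, i, x⟩, hz⟩ := (mark_pos_iff L).1 (Nat.pos_of_ne_zero h)
    obtain ⟨g, rfl⟩ := QuotientGroup.mk_surjective x
    rw [hstab] at hz
    have := Subgroup.card_le_of_le hz
    rw [hcard] at this
    omega
  · intro L
    obtain ⟨m, hm⟩ : ∃ m : S × S,
        L.1 = ((Quotient.mk (grSetoid F n) L) : Quotient (grSetoid F n)).out.1.map (MulAut.conj m).toMonoidHom :=
      Quotient.mk_out (s := grSetoid F n) L
    have e : mark Z L.1 = c (Quotient.mk (grSetoid F n) L) * mark ((S × S) ⧸ ((Quotient.mk (grSetoid F n) L) : Quotient (grSetoid F n)).out.1) L.1 := by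
      rw [mark, mark, ← Nat.card_fin (c (Quotient.mk (grSetoid F n) L)), ← Nat.card_prod]
      refine (Nat.card_congr (Equiv.ofBijective (fun w => ⟨⟨(Quotient.mk (grSetoid F n) L), w.1, w.2.1⟩, fun l hl => by
        rw [hsm, w.2.2 l hl]⟩) ⟨?_, ?_⟩)).symm
      · rintro ⟨i, x, hx⟩ ⟨j, y, hy⟩ h
        have h1 := eq_of_heq (Sigma.mk.injEq .. ▸ (congrArg Subtype.val h)).2
        exact Prod.ext (congrArg Prod.fst h1 :) (Subtype.ext (congrArg Prod.snd h1 :))
      · rintro ⟨⟨q, i, x⟩, hz⟩
        obtain ⟨g, rfl⟩ := QuotientGroup.mk_surjective x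
        have hle : L.1 ≤ q.out.1.map (MulAut.conj g).toMonoidHom := fun l hl => by
          rw [← hstab q i g]; exact hz l hl
        have heq := Subgroup.eq_of_le_of_card_ge hle (by rw [hcard, L.2.2])
        have hq : (Quotient.mk (grSetoid F n) L) = q := by
          rw [← q.out_eq]
          exact (Quotient.sound (s := grSetoid F n) (a := q.out) (b := L) ⟨g, heq⟩).symm
        subst hq
        exact ⟨(i, ⟨(g : (S × S) ⧸ _), fun l hl =>
          congrArg Prod.snd (eq_of_heq (Sigma.mk.injEq .. ▸ (hsm l _ i _ ▸ hz l hl)).2)⟩), rfl⟩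
    rw [e, hm, relIndex_normalizer_map, mark_map_conj, mark_quotient_self]
  · rw [Nat.card_sigma, finsum_eq_sum_of_fintype, Finset.sum_mul]
    refine Finset.sum_congr rfl fun q _ => ?_
    rw [Nat.card_prod, Nat.card_fin, ← Subgroup.index_eq_card]
    congr 1
    have h1 := q.out.1.index_mul_card
    rw [q.out.2.2] at h1
    rw [← h1, Nat.mul_div_cancel _ (q.out.2.2 ▸ Nat.card_pos)]

theorem exists_good [Finite S] {p : ℕ} [Fact p.Prime] (hS : IsPGroup p S) (hF : F.IsSaturated p)
    {R : Subgroup Ω} (hR : R ≤ S) :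
    ∃ Q f₀, F.IsReceptive Q ∧ IsIso F R Q f₀ ∧ IsMap F (normalizerIn S R) f₀ := by
  obtain ⟨Q, hQ, h₁, h₂⟩ := hF R hR
  obtain ⟨f, hf, hfR, -⟩ := exists_normalizer_map hS h₁ h₂ hQ
  exact ⟨Q, f, h₂, hfR, hf⟩

theorem le_normalizerIn_self : normalizerIn S S = S := inf_eq_left.2 Subgroup.le_normalizer

/-- All graphs over `S` have normalizers of the same order. -/
theorem card_normalizer_graph_le [Finite S] {p : ℕ} [Fact p.Prime] (hS : IsPGroup p S)
    (hF : F.IsSaturated p) {f f₀ : Ω → Ω} {L L₀ : Subgroup (S × S)}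
    (hL : IsGraph F S f L) (hL₀ : IsGraph F S f₀ L₀) :
    Nat.card (Subgroup.normalizer (L : Set (S × S))) ≤
      Nat.card (Subgroup.normalizer (L₀ : Set (S × S))) := by
  obtain ⟨Q, hQ⟩ := hL₀.1.exists_image
  have hQS : Q = S := Subgroup.eq_of_le_of_card_ge hQ.cod_le hQ.card_eq.le
  have hrec : F.IsReceptive Q := hQS ▸ receptive_of_fullyNormalized hS hF fullyNormalized_self
  obtain ⟨M₁, θ, Θ, hθ, hlp, hΘ, hmap⟩ :=
    exists_shift hL hL₀ hrec hQ (by rw [le_normalizerIn_self]; exact hL₀.1)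
  refine le_trans (le_of_eq ?_) (Subgroup.card_le_of_le (H := Θ.range) ?_)
  · refine Nat.card_congr (MonoidHom.ofInjective fun a b h => Subtype.ext ?_).toEquiv
    have h1 : θ ((a : S × S).1 : Ω) = θ ((b : S × S).1 : Ω) := by
      rw [← (hΘ a).1, ← (hΘ b).1, h]
    refine Prod.ext (Subtype.ext (hθ.injOn (hlp ⟨_, a.2, rfl⟩) (hlp ⟨_, b.2, rfl⟩) h1)) ?_
    rw [← (hΘ a).2, ← (hΘ b).2, h]
  · have h1 : (L.subgroupOf (Subgroup.normalizer (L : Set (S × S)))).Normal :=
      Subgroup.normal_subgroupOf_iff_le_normalizer Subgroup.le_normalizer |>.2 le_rfl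
    rintro _ ⟨n, rfl⟩
    refine ConjFunctor.mem_nrm_of_forall fun x hx => ?_
    rw [← hmap] at hx ⊢
    obtain ⟨k, hk, rfl⟩ := hx
    exact ⟨n * k * n⁻¹, h1.conj_mem k hk n, by simp⟩

/-- Classes of graphs over `S` correspond to the cosets of `Inn(S)` in `Aut_F(S)`. -/
theorem card_top_classes [Finite S] :
    Nat.card (Quotient (grSetoid F (Nat.card S))) =
      ((autInducedBy S S).subgroupOf (F.autGroup S)).index := by
  classical
  haveI := finite_mulAut S
  set B := (autInducedBy S S).subgroupOf (F.autGroup S)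
  have hgr : ∀ α : F.autGroup S, IsMap F S (autFun (α : MulAut S)) := fun α =>
    ((mem_autGroup (F := F) le_rfl).1 α.2).1
  let gr : F.autGroup S → {L : Subgroup (S × S) // L ∈ graphs F ∧ Nat.card L = Nat.card S} :=
    fun α => ⟨graphOf (hgr α), ⟨_, _, isGraph_graphOf (hgr α)⟩, (isGraph_graphOf (hgr α)).card_eq⟩
  have hmem : ∀ (α : F.autGroup S) (a : S × S), a ∈ (gr α).1 ↔ (α : MulAut S) a.2 = a.1 := fun α a => by
    refine ⟨fun h => Subtype.ext ?_, fun h => ⟨a.2.2, ?_⟩⟩
    · rw [← h.2, autFun_coe]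
    · rw [autFun_coe, h]
  have key : ∀ α β : F.autGroup S, (grSetoid F (Nat.card S)).r (gr α) (gr β) ↔ α⁻¹ * β ∈ B := by
    intro α β
    rw [Subgroup.mem_subgroupOf, mem_autInducedBy]
    constructor
    · rintro ⟨m, hm⟩
      refine ⟨(((α : MulAut S).symm m.1) * m.2⁻¹ : S), SetLike.coe_mem _, fun x => ?_⟩
      have hx : ((β : MulAut S) x, x) ∈ (gr β).1 := (hmem β _).2 rfl
      rw [hm] at hx
      obtain ⟨b, hb, he⟩ := hx
      have hb' := (hmem α b).1 hb
      have e1 : m.1 * b.1 * m.1⁻¹ = (β : MulAut S) x := congrArg Prod.fst he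
      have e2 : m.2 * b.2 * m.2⁻¹ = x := congrArg Prod.snd he
      show (((α : MulAut S).symm ((β : MulAut S) x) : S) : Ω) = _
      rw [← e1, ← hb', map_mul, map_mul, map_inv, MulEquiv.symm_apply_apply, ← e2]
      simp [mul_assoc]
    · rintro ⟨g, hg, hgx⟩
      refine ⟨((α : MulAut S) ⟨g, hg⟩, 1), SetLike.ext fun a => ?_⟩
      have hβ : ∀ x : S, (β : MulAut S) x =
          (α : MulAut S) ⟨g, hg⟩ * (α : MulAut S) x * ((α : MulAut S) ⟨g, hg⟩)⁻¹ := fun x => by
        have h1 : ((α⁻¹ * β : F.autGroup S) : MulAut S) x = ⟨g, hg⟩ * x * (⟨g, hg⟩ : S)⁻¹ :=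
          Subtype.ext (hgx x)
        have h2 := congrArg (α : MulAut S) h1
        rw [map_mul, map_mul, map_inv] at h2
        rw [← h2]
        show (β : MulAut S) x = (α : MulAut S) ((α : MulAut S).symm ((β : MulAut S) x))
        rw [MulEquiv.apply_symm_apply]
      rw [hmem]
      constructor
      · intro h
        refine ⟨((α : MulAut S) a.2, a.2), (hmem α _).2 rfl, Prod.ext ?_ ?_⟩
        · show (α : MulAut S) ⟨g, hg⟩ * (α : MulAut S) a.2 * ((α : MulAut S) ⟨g, hg⟩)⁻¹ = a.1
          rw [← hβ, h]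
        · show (1 : S) * a.2 * 1⁻¹ = a.2
          simp
      · rintro ⟨b, hb, rfl⟩
        show (β : MulAut S) ((1 : S) * b.2 * 1⁻¹) =
          (α : MulAut S) ⟨g, hg⟩ * b.1 * ((α : MulAut S) ⟨g, hg⟩)⁻¹
        rw [one_mul, inv_one, mul_one, hβ, (hmem α b).1 hb]
  rw [Subgroup.index_eq_card]
  refine (Nat.card_congr (Equiv.ofBijective (Quotient.map' gr ?_) ⟨?_, ?_⟩)).symm
  · intro α β h
    exact (key α β).2 (QuotientGroup.leftRel_apply.1 h)
  · intro x y
    refine Quotient.inductionOn₂' x y fun α β h => ?_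
    exact Quotient.sound' (QuotientGroup.leftRel_apply.2 ((key α β).1 (Quotient.exact' h)))
  · intro q
    refine Quotient.inductionOn' q fun ⟨L, ⟨P, f, hf⟩, hc⟩ => ?_
    have hP : P = S := Subgroup.eq_of_le_of_card_ge hf.1.dom_le (by rw [← hf.card_eq, hc])
    subst hP
    obtain ⟨Q, hQ⟩ := hf.1.exists_image
    obtain rfl : Q = P := Subgroup.eq_of_le_of_card_ge hQ.cod_le hQ.card_eq.le
    have he : Set.EqOn f (autFun (hQ.equiv : MulAut Q)) Q := fun x hx => by
      rw [show autFun (hQ.equiv : MulAut Q) x = _ from autFun_coe _ ⟨x, hx⟩, hQ.equiv_apply]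
    let α : F.autGroup Q := ⟨hQ.equiv, (mem_autGroup le_rfl).2 (hQ.congr he)⟩
    refine ⟨Quotient.mk'' α, ?_⟩
    show Quotient.mk'' (gr α) = _
    congr 1
    exact Subtype.ext ((isGraph_graphOf (hgr α)).ext_unique (hf.congr he))

/-- A left stable biset with number of right orbits prime to `p`. -/
theorem exists_biset [Finite S] (p : ℕ) [Fact p.Prime] (hS : IsPGroup p S) (hF : F.IsSaturated p) :
    ∃ (X : Type u) (_ : MulAction (S × S) X) (_ : Finite X),
      (∀ z : X, MulAction.stabilizer (S × S) z ∈ graphs F) ∧ (∀ R, StableAt F X R) ∧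
        ∃ m, Nat.card X = Nat.card S * m ∧ ¬ p ∣ m := by
  classical
  suffices hk : ∀ k : ℕ, ∃ (X : Type u) (_ : MulAction (S × S) X) (_ : Finite X),
      (∀ z : X, MulAction.stabilizer (S × S) z ∈ graphs F) ∧
      (∀ R : Subgroup Ω, Nat.card S ≤ Nat.card R + k → StableAt F X R) ∧
        ∃ m, Nat.card X = Nat.card S * m ∧ ¬ p ∣ m by
    obtain ⟨X, i, j, h1, h2, h3⟩ := hk (Nat.card S)
    exact ⟨X, i, j, h1, fun R => h2 R (Nat.le_add_left _ _), h3⟩
  intro k
  induction k with
  | zero =>
    obtain ⟨Z, i, j, h1, -, h3, h4⟩ := exists_pieces F (Nat.card S) fun _ => 1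
    refine ⟨Z, i, j, h1, fun R hR f f' L L' hL hL' => ?_, ?_⟩
    · have hRS : R = S := Subgroup.eq_of_le_of_card_ge hL.1.dom_le hR
      subst hRS
      rw [h3 ⟨L, ⟨_, _, hL⟩, hL.card_eq⟩, h3 ⟨L', ⟨_, _, hL'⟩, hL'.card_eq⟩, one_mul, one_mul]
      have hc := le_antisymm (card_normalizer_graph_le hS hF hL hL')
        (card_normalizer_graph_le hS hF hL' hL)
      have key : ∀ K : Subgroup (R × R),
          K.relIndex (Subgroup.normalizer (K : Set (R × R))) * Nat.card K =
            Nat.card (Subgroup.normalizer (K : Set (R × R))) := fun K => by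
        rw [← Nat.card_congr (Subgroup.subgroupOfEquivOfLe (Subgroup.le_normalizer (H := K))).toEquiv]
        exact Subgroup.index_mul_card _
      have k1 := key L
      have k2 := key L'
      rw [hL.card_eq, hc] at k1
      rw [hL'.card_eq] at k2
      exact Nat.eq_of_mul_eq_mul_right Nat.card_pos (k1.trans k2.symm)
    · haveI : Fintype (Quotient (grSetoid F (Nat.card S))) := Fintype.ofFinite _
      refine ⟨Nat.card (Quotient (grSetoid F (Nat.card S))), ?_, ?_⟩
      · rw [h4, Nat.card_prod, Nat.mul_div_cancel _ Nat.card_pos, mul_comm, finsum_eq_sum_of_fintype,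
          Finset.sum_const, smul_eq_mul, mul_one, Finset.card_univ, ← Nat.card_eq_fintype_card]
      · haveI := finite_mulAut S
        rw [card_top_classes]
        obtain ⟨-, R, hR⟩ : F.IsFullyAutomized p S := fullyAutomized_of_fullyNormalized hS hF fullyNormalized_self
        rw [← hR]
        exact R.not_dvd_index
  | succ k ih =>
    obtain ⟨X, _, _, hX1, hX2, m, hXm, hm⟩ := ih
    by_cases hks : Nat.card S ≤ k
    · exact ⟨X, inferInstance, inferInstance, hX1, fun R _ => hX2 R (by omega), m, hXm, hm⟩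
    set n := Nat.card S - (k + 1) with hn
    let K := Nat.card (S × S) * (Nat.card X + 1)
    let rs : Setoid (Subgroup Ω) :=
      { r := fun R R' => ∃ s ∈ S, R' = ConjFunctor.cnj s R
        iseqv :=
          { refl := fun R => ⟨1, S.one_mem, (ConjFunctor.cnj_one R).symm⟩
            symm := fun {R R'} ⟨s, hs, h⟩ => ⟨s⁻¹, S.inv_mem hs, by rw [h, ConjFunctor.cnj_inv_cnj]⟩
            trans := fun {R R' R''} ⟨s, hs, h⟩ ⟨t, ht, h'⟩ =>
              ⟨t * s, S.mul_mem ht hs, by rw [h', h, ConjFunctor.cnj_cnj]⟩ } }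
    let Gd : Subgroup Ω → ℕ := fun R =>
      if h : ∃ Q f₀, F.IsReceptive Q ∧ IsIso F R Q f₀ ∧ IsMap F (normalizerIn S R) f₀ then
        mark X (graphOf (F := F) h.choose_spec.choose_spec.2.1.1) else 0
    let T : Subgroup Ω → ℕ := fun R => Gd (Quotient.mk rs R).out + K
    let c : Quotient (grSetoid F n) → ℕ := fun q =>
      (T (rproj q.out.1) - mark X q.out.1) / q.out.1.relIndex (Subgroup.normalizer (q.out.1 : Set (S × S)))
    have hbound : ∀ L : Subgroup (S × S), mark X L ≤ Nat.card X := fun L =>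
      Nat.card_le_card_of_injective Subtype.val Subtype.val_injective
    have hcongr : ∀ L : Subgroup (S × S), ∀ R f, IsGraph F R f L → Nat.card R = n →
        L.relIndex (Subgroup.normalizer (L : Set (S × S))) ∣ T R - mark X L := by
      intro L R f hL hR
      obtain ⟨s, hs, hrep⟩ : ∃ s ∈ S, R = ConjFunctor.cnj s (Quotient.mk rs R).out :=
        Quotient.mk_out (s := rs) R
      set R₀ := (Quotient.mk rs R).out with hR₀
      have hR₀S : R₀ ≤ S := fun x hx => by
        have h1 : s * x * s⁻¹ ∈ S := hL.1.dom_le (hrep ▸ ConjFunctor.conj_mem_cnj.2 hx)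
        simpa [mul_assoc] using S.mul_mem (S.mul_mem (S.inv_mem hs) h1) hs
      have hex := exists_good hS hF hR₀S
      let m₀ : S × S := (1, ⟨s, hs⟩⁻¹)
      have hL₀ := hL.conj m₀
      have hP : R.map (MulAut.conj (m₀.2 : Ω)).toMonoidHom = R₀ := by
        show ConjFunctor.cnj s⁻¹ R = R₀
        rw [hrep, ConjFunctor.cnj_inv_cnj]
      rw [hP] at hL₀
      rw [← mark_map_conj m₀ L, ← relIndex_normalizer_map m₀ L]
      refine (Nat.modEq_iff_dvd' ?_).1 ?_
      · exact (hbound _).trans ((Nat.le_succ _).trans ((Nat.le_mul_of_pos_left _ Nat.card_pos).trans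
          (Nat.le_add_left _ _)))
      · have hKdvd : (L.map (MulAut.conj m₀).toMonoidHom).relIndex (Subgroup.normalizer
            ((L.map (MulAut.conj m₀).toMonoidHom : Subgroup (S × S)) : Set (S × S))) ∣ K :=
          Dvd.dvd.mul_right ((Subgroup.index_dvd_card _).trans (Subgroup.card_subgroup_dvd_card _)) _
        refine Nat.ModEq.trans ?_ (Nat.ModEq.add_left (Gd R₀) (Nat.modEq_zero_iff_dvd.2 hKdvd).symm)
        rw [Nat.add_zero]
        show _ ≡ Gd R₀ [MOD _]
        simp only [Gd, dif_pos hex]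
        refine mark_graph_modEq hX1 (fun R' hR' => hX2 R' ?_) hL₀ (isGraph_graphOf _)
          hex.choose_spec.choose_spec.1 hex.choose_spec.choose_spec.2.1 hex.choose_spec.choose_spec.2.2
        have : Nat.card R₀ = n := by rw [← hR, hrep, ConjFunctor.card_cnj]
        omega
    obtain ⟨Z, _, _, hZ1, hZ2, hZ3, hZ4⟩ := exists_pieces F n c
    let act : MulAction (S × S) (X ⊕ Z) :=
      { smul := fun a w => Sum.map (a • ·) (a • ·) w
        one_smul := fun w => by rcases w with w | w <;> simp [HSMul.hSMul] <;> exact one_smul (S × S) w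
        mul_smul := fun a a' w => by
          rcases w with w | w <;> simp [HSMul.hSMul] <;> exact mul_smul a a' w }
    letI := act
    have hinl : ∀ (a : S × S) (x : X), a • (Sum.inl x : X ⊕ Z) = Sum.inl (a • x) := fun _ _ => rfl
    have hinr : ∀ (a : S × S) (x : Z), a • (Sum.inr x : X ⊕ Z) = Sum.inr (a • x) := fun _ _ => rfl
    have hmark : ∀ L, mark (X ⊕ Z) L = mark X L + mark Z L := fun L => by
      unfold mark
      rw [← Nat.card_sum]
      let e₁ : {x : X // ∀ l ∈ L, l • x = x} → {w : X ⊕ Z // ∀ l ∈ L, l • w = w} := fun x =>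
        ⟨Sum.inl x.1, fun l hl => by rw [hinl, x.2 l hl]⟩
      let e₂ : {x : Z // ∀ l ∈ L, l • x = x} → {w : X ⊕ Z // ∀ l ∈ L, l • w = w} := fun x =>
        ⟨Sum.inr x.1, fun l hl => by rw [hinr, x.2 l hl]⟩
      refine (Nat.card_congr (Equiv.ofBijective (Sum.elim e₁ e₂) ⟨?_, ?_⟩)).symm
      · rintro (x | x) (y | y) h <;> simp [e₁, e₂] at h <;> simp [Subtype.ext_iff, h]
      · rintro ⟨x | x, hx⟩
        · exact ⟨Sum.inl ⟨x, fun l hl => Sum.inl_injective (hx l hl)⟩, rfl⟩
        · exact ⟨Sum.inr ⟨x, fun l hl => Sum.inr_injective (hx l hl)⟩, rfl⟩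
    refine ⟨X ⊕ Z, inferInstance, inferInstance, ?_, ?_, ?_⟩
    · rintro (z | z)
      · have h : MulAction.stabilizer (S × S) (Sum.inl z : X ⊕ Z) = MulAction.stabilizer (S × S) z :=
          Subgroup.ext fun a => ⟨fun h => Sum.inl_injective h, fun h => congrArg Sum.inl h⟩
        exact h ▸ hX1 z
      · have h : MulAction.stabilizer (S × S) (Sum.inr z : X ⊕ Z) = MulAction.stabilizer (S × S) z :=
          Subgroup.ext fun a => ⟨fun h => Sum.inr_injective h, fun h => congrArg Sum.inr h⟩
        exact h ▸ hZ1 z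
    · intro R hR f f' L L' hL hL'
      rcases lt_or_ge n (Nat.card R) with hlt | hge
      · rw [hmark, hmark, hZ2 L (by rwa [hL.card_eq]), hZ2 L' (by rwa [hL'.card_eq]),
          hX2 R (by omega) f f' L L' hL hL']
      · have hRn : Nat.card R = n := by omega
        have hval : ∀ L f, IsGraph F R f L → mark (X ⊕ Z) L = T R := by
          intro L f hL
          let LL : {L : Subgroup (S × S) // L ∈ graphs F ∧ Nat.card L = n} :=
            ⟨L, ⟨_, _, hL⟩, hL.card_eq.trans hRn⟩
          rw [hmark, show mark Z L = _ from hZ3 LL]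
          obtain ⟨a, ha⟩ : ∃ a : S × S,
              L = ((Quotient.mk (grSetoid F n) LL) : Quotient (grSetoid F n)).out.1.map (MulAut.conj a).toMonoidHom :=
            Quotient.mk_out (s := grSetoid F n) LL
          set Lo := ((Quotient.mk (grSetoid F n) LL) : Quotient (grSetoid F n)).out with hLo
          have hTeq : T (rproj Lo.1) = T R := by
            show Gd (Quotient.mk rs _).out + K = Gd (Quotient.mk rs R).out + K
            congr 3
            refine Quotient.sound (s := rs) ⟨(a.2 : Ω), a.2.2, ?_⟩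
            rw [← hL.rproj_eq, ha]
            show (Lo.1.map (MulAut.conj a).toMonoidHom).map _ = (Lo.1.map _).map _
            rw [Subgroup.map_map, Subgroup.map_map]
            congr 1
          show mark X L + (T (rproj Lo.1) - mark X Lo.1) / Lo.1.relIndex (Subgroup.normalizer (Lo.1 : Set (S × S))) *
            L.relIndex (Subgroup.normalizer (L : Set (S × S))) = T R
          rw [hTeq, ha, mark_map_conj, relIndex_normalizer_map]
          have hd := hcongr L R f hL hRn
          rw [ha, mark_map_conj, relIndex_normalizer_map] at hd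
          rw [Nat.div_mul_cancel hd]
          exact Nat.add_sub_cancel' ((hbound _).trans ((Nat.le_succ _).trans
            ((Nat.le_mul_of_pos_left _ Nat.card_pos).trans (Nat.le_add_left _ _))))
        rw [hval L f hL, hval L' f' hL']
    · refine ⟨m + (∑ᶠ q, c q) * (Nat.card S / n), ?_, ?_⟩
      · rw [Nat.card_sum, hXm, hZ4, Nat.card_prod, mul_add]
        congr 1
        by_cases hq : Nonempty (Quotient (grSetoid F n))
        · obtain ⟨⟨L, ⟨R, f, hL⟩, hc⟩⟩ := hq.some.exists_rep
          have : n ∣ Nat.card S := hc ▸ hL.card_eq ▸ Subgroup.card_dvd_of_le hL.1.dom_le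
          rw [Nat.mul_div_assoc _ this]; ring
        · haveI := not_nonempty_iff.1 hq
          simp [finsum_of_isEmpty]
      · rw [Nat.dvd_add_left]
        · exact hm
        by_cases hq : Nonempty (Quotient (grSetoid F n))
        · obtain ⟨⟨L, ⟨R, f, hL⟩, hc⟩⟩ := hq.some.exists_rep
          rw [hL.card_eq] at hc
          haveI : Finite R := finite_of_le hL.1.dom_le
          obtain ⟨j, hj⟩ := hS.index (R.subgroupOf S)
          have h1 := (R.subgroupOf S).index_mul_card
          rw [hj, Nat.card_congr (Subgroup.subgroupOfEquivOfLe hL.1.dom_le).toEquiv, hc] at h1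
          rw [← h1, Nat.mul_div_cancel _ (hc ▸ Nat.card_pos)]
          rcases j with _ | j
          · simp at h1; omega
          · exact Dvd.dvd.mul_left (dvd_pow_self _ (Nat.succ_ne_zero j)) _
        · haveI := not_nonempty_iff.1 hq
          simp [finsum_of_isEmpty]

end Cfsg.Agent.FusTransfer
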