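import Cfsg.Agent.Fus93.Marks
import Cfsg.Agent.Lib.Fusion.Saturation
import Cfsg.Agent.ConjFunctor.Basic

/-!
Graphs of maps of a fusion system inside `S × S` (right projection the domain, left projection the
image), and the congruence between their marks used to stabilize a biset on the left.
-/

set_option autoImplicit false
set_option linter.style.haveILetI false

namespace Cfsg.Agent.FusTransfer

open Cfsg Cfsg.Agent.Fusion Cfsg.Agent.Fus93
open Cfsg.FusionSystem (normalizerIn)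

universe u v

/-! ### Marks -/

section Marks

variable {M : Type u} [Group M] {X : Type v} [MulAction M X]

theorem mark_map_conj (g : M) (L : Subgroup M) :
    mark X (L.map (MulAut.conj g).toMonoidHom) = mark X L := by
  refine Nat.card_congr (Equiv.subtypeEquiv (MulAction.toPerm g⁻¹) fun x => ?_)
  constructor
  · intro h l hl
    have h1 := h (g * l * g⁻¹) ⟨l, hl, rfl⟩
    show l • g⁻¹ • x = g⁻¹ • x
    calc l • g⁻¹ • x = g⁻¹ • ((g * l * g⁻¹) • x) := by simp [smul_smul, mul_assoc]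
      _ = g⁻¹ • x := by rw [h1]
  · rintro h _ ⟨l, hl, rfl⟩
    have h1 : l • g⁻¹ • x = g⁻¹ • x := h l hl
    show (g * l * g⁻¹) • x = x
    calc (g * l * g⁻¹) • x = g • (l • g⁻¹ • x) := by simp [smul_smul, mul_assoc]
      _ = x := by rw [h1, smul_inv_smul]

/-- Burnside congruence: two subgroups carried to each other by a homomorphism on the normalizer of
the first, with equal marks on all larger subgroups, have congruent marks. -/
theorem mark_modEq [Finite M] [Finite X] {L L0 N : Subgroup M} (hLN : L ≤ N)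
    (hN : N ≤ Subgroup.normalizer (L : Set M)) (Θ : N →* M) (hΘ : (L.subgroupOf N).map Θ = L0)
    (h : ∀ n : N, (n : M) ∉ L → mark X (L ⊔ Subgroup.zpowers (n : M)) = mark X (L0 ⊔ Subgroup.zpowers (Θ n))) :
    mark X L ≡ mark X L0 [MOD L.relIndex N] := by
  classical
  let Y₁ := {x : X // ∀ l ∈ L, l • x = x}
  let Y₂ := {x : X // ∀ l ∈ L0, l • x = x}
  letI : MulAction N Y₁ :=
    { smul := fun n x => ⟨(n : M) • x.1, fun l hl => by
        have h1 : (n : M)⁻¹ * l * n ∈ L := by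
          have := (Subgroup.mem_normalizer_iff.1 (inv_mem (hN n.2)) l).1 hl
          simpa using this
        calc l • (n : M) • x.1 = (n : M) • (((n : M)⁻¹ * l * n) • x.1) := by simp [smul_smul, mul_assoc]
          _ = (n : M) • x.1 := by rw [x.2 _ h1]⟩
      one_smul := fun x => Subtype.ext (one_smul M x.1)
      mul_smul := fun a b x => Subtype.ext (mul_smul (a : M) (b : M) x.1) }
  letI : MulAction N Y₂ :=
    { smul := fun n x => ⟨Θ n • x.1, fun l hl => by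
        have h1 : (Θ n)⁻¹ * l * Θ n ∈ L0 := by
          rw [← hΘ] at hl ⊢
          obtain ⟨k, hk, rfl⟩ := hl
          refine ⟨n⁻¹ * k * n, ?_, by simp⟩
          have h3 := (Subgroup.mem_normalizer_iff.1 (inv_mem (hN n.2)) (k : M)).1 hk
          show ((n⁻¹ * k * n : N) : M) ∈ L
          simpa using h3
        calc l • Θ n • x.1 = Θ n • (((Θ n)⁻¹ * l * Θ n) • x.1) := by simp [smul_smul, mul_assoc]
          _ = Θ n • x.1 := by rw [x.2 _ h1]⟩
      one_smul := fun x => Subtype.ext (show Θ 1 • x.1 = x.1 by rw [map_one, one_smul])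
      mul_smul := fun a b x => Subtype.ext (show Θ (a * b) • x.1 = Θ a • Θ b • x.1 by
        rw [map_mul, mul_smul]) }
  haveI : Fintype N := Fintype.ofFinite N
  haveI : Fintype (MulAction.orbitRel.Quotient N Y₁) := Fintype.ofFinite _
  haveI : Fintype (MulAction.orbitRel.Quotient N Y₂) := Fintype.ofFinite _
  haveI : ∀ n : N, Fintype (MulAction.fixedBy Y₁ n) := fun n => Fintype.ofFinite _
  haveI : ∀ n : N, Fintype (MulAction.fixedBy Y₂ n) := fun n => Fintype.ofFinite _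
  have hfix : ∀ {K : Subgroup M} (m : M) (x : X),
      ((∀ l ∈ K ⊔ Subgroup.zpowers m, l • x = x) ↔ ((∀ l ∈ K, l • x = x) ∧ m • x = x)) := by
    intro K m x
    refine ⟨fun hh => ⟨fun l hl => hh l (le_sup_left (b := Subgroup.zpowers m) hl),
      hh m (le_sup_right (a := K) (Subgroup.mem_zpowers m))⟩, fun hh => ?_⟩
    have : K ⊔ Subgroup.zpowers m ≤ MulAction.stabilizer M x :=
      sup_le hh.1 (Subgroup.zpowers_le.2 hh.2)
    exact fun l hl => this hl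
  have e₁ : ∀ n : N, Fintype.card (MulAction.fixedBy Y₁ n) =
      if (n : M) ∈ L then mark X L else mark X (L ⊔ Subgroup.zpowers (n : M)) := by
    intro n
    rw [← Nat.card_eq_fintype_card]
    split_ifs with hn
    · exact Nat.card_congr ((Equiv.subtypeUnivEquiv fun x : Y₁ => Subtype.ext (x.2 _ hn)))
    · refine Nat.card_congr ((Equiv.subtypeSubtypeEquivSubtypeExists _ _).trans
        (Equiv.subtypeEquivRight fun x => ?_))
      rw [hfix]
      exact ⟨fun ⟨hx, hm⟩ => ⟨hx, congrArg Subtype.val hm⟩, fun ⟨hx, hm⟩ => ⟨hx, Subtype.ext hm⟩⟩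
  have e₂ : ∀ n : N, Fintype.card (MulAction.fixedBy Y₂ n) =
      if (n : M) ∈ L then mark X L0 else mark X (L ⊔ Subgroup.zpowers (n : M)) := by
    intro n
    rw [← Nat.card_eq_fintype_card]
    split_ifs with hn
    · exact Nat.card_congr ((Equiv.subtypeUnivEquiv fun x : Y₂ =>
        Subtype.ext (x.2 _ (hΘ ▸ ⟨n, hn, rfl⟩))))
    · rw [h n hn]
      refine Nat.card_congr ((Equiv.subtypeSubtypeEquivSubtypeExists _ _).trans
        (Equiv.subtypeEquivRight fun x => ?_))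
      rw [hfix]
      exact ⟨fun ⟨hx, hm⟩ => ⟨hx, congrArg Subtype.val hm⟩, fun ⟨hx, hm⟩ => ⟨hx, Subtype.ext hm⟩⟩
  have s₁ := MulAction.sum_card_fixedBy_eq_card_orbits_mul_card_group N Y₁
  have s₂ := MulAction.sum_card_fixedBy_eq_card_orbits_mul_card_group N Y₂
  rw [Finset.sum_congr rfl (fun n _ => e₁ n), Finset.sum_ite] at s₁
  rw [Finset.sum_congr rfl (fun n _ => e₂ n), Finset.sum_ite] at s₂
  rw [Finset.sum_const, smul_eq_mul] at s₁ s₂
  generalize (∑ n ∈ Finset.univ.filter (fun n : N => ¬ (n : M) ∈ L),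
    mark X (L ⊔ Subgroup.zpowers (n : M))) = R at s₁ s₂
  have hk : (Finset.univ.filter fun n : N => (n : M) ∈ L).card = Nat.card (L.subgroupOf N) := by
    rw [← Fintype.card_subtype, ← Nat.card_eq_fintype_card]
    exact Nat.card_congr (Equiv.subtypeEquivRight fun _ => Iff.rfl)
  rw [hk] at s₁ s₂
  have hN' : Fintype.card N = Nat.card (L.subgroupOf N) * L.relIndex N := by
    rw [← Nat.card_eq_fintype_card, mul_comm]; exact ((L.subgroupOf N).index_mul_card).symm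
  rw [hN'] at s₁ s₂
  refine Nat.ModEq.mul_left_cancel' (c := Nat.card (L.subgroupOf N)) Nat.card_pos.ne'
    (Nat.ModEq.add_right_cancel' R ?_)
  rw [s₁, s₂]
  exact (Nat.modEq_zero_iff_dvd.2 (dvd_mul_left _ _)).trans
    (Nat.modEq_zero_iff_dvd.2 (dvd_mul_left _ _)).symm

end Marks

/-! ### Graphs -/

variable {Ω : Type u} [Group Ω] {S : Subgroup Ω} {F : FusionSystem S}

/-- `L` is the graph of the map `f` of `F` on `P`. -/
def IsGraph (F : FusionSystem S) (P : Subgroup Ω) (f : Ω → Ω) (L : Subgroup (S × S)) : Prop :=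
  IsMap F P f ∧ ∀ a : S × S, a ∈ L ↔ ((a.2 : Ω) ∈ P ∧ f a.2 = a.1)

/-- The graphs of the maps of `F`. -/
def graphs (F : FusionSystem S) : Set (Subgroup (S × S)) := {L | ∃ P f, IsGraph F P f L}

/-- The graph of a map of `F`. -/
def graphOf {P : Subgroup Ω} {f : Ω → Ω} (hf : IsMap F P f) : Subgroup (S × S) where
  carrier := {a | (a.2 : Ω) ∈ P ∧ f a.2 = a.1}
  one_mem' := ⟨P.one_mem, hf.map_one⟩
  mul_mem' := fun {a b} ha hb => ⟨P.mul_mem ha.1 hb.1, by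
    show f ((a.2 : Ω) * b.2) = (a.1 : Ω) * b.1
    rw [hf.map_mul ha.1 hb.1, ha.2, hb.2]⟩
  inv_mem' := fun {a} ha => ⟨P.inv_mem ha.1, by
    show f (a.2 : Ω)⁻¹ = (a.1 : Ω)⁻¹
    rw [hf.map_inv ha.1, ha.2]⟩

theorem isGraph_graphOf {P : Subgroup Ω} {f : Ω → Ω} (hf : IsMap F P f) :
    IsGraph F P f (graphOf hf) := ⟨hf, fun _ => Iff.rfl⟩

/-- The right projection, inside `Ω`. -/
def rproj (L : Subgroup (S × S)) : Subgroup Ω := L.map (S.subtype.comp (MonoidHom.snd S S))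

/-- The left projection, inside `Ω`. -/
def lproj (L : Subgroup (S × S)) : Subgroup Ω := L.map (S.subtype.comp (MonoidHom.fst S S))

namespace IsGraph

variable {P : Subgroup Ω} {f : Ω → Ω} {L : Subgroup (S × S)}

theorem mk_mem (h : IsGraph F P f L) {x : Ω} (hx : x ∈ P) :
    ((⟨f x, h.1.apply_mem hx⟩, ⟨x, h.1.dom_le hx⟩) : S × S) ∈ L := (h.2 _).2 ⟨hx, rfl⟩

theorem ext_unique {L' : Subgroup (S × S)} (h : IsGraph F P f L) (h' : IsGraph F P f L') : L = L' :=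
  SetLike.ext fun a => (h.2 a).trans (h'.2 a).symm

theorem rproj_eq (h : IsGraph F P f L) : rproj L = P := by
  refine le_antisymm ?_ fun x hx => ⟨_, h.mk_mem hx, rfl⟩
  rintro _ ⟨a, ha, rfl⟩
  exact ((h.2 a).1 ha).1

theorem congr {g : Ω → Ω} (h : IsGraph F P f L) (hfg : Set.EqOn f g P) : IsGraph F P g L :=
  ⟨h.1.congr hfg, fun a => (h.2 a).trans (and_congr_right fun ha => by rw [hfg ha])⟩

theorem eq_one_of_right (h : IsGraph F P f L) {a : S × S} (ha : a ∈ L) (h2 : a.2 = 1) : a = 1 := by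
  have := ((h.2 a).1 ha).2
  rw [h2, Subgroup.coe_one, h.1.map_one] at this
  exact Prod.ext (Subtype.ext this.symm) h2

theorem eq_one_of_left (h : IsGraph F P f L) {a : S × S} (ha : a ∈ L) (h1 : a.1 = 1) : a = 1 := by
  obtain ⟨hm, he⟩ := (h.2 a).1 ha
  rw [h1, Subgroup.coe_one, ← h.1.map_one] at he
  exact Prod.ext h1 (Subtype.ext (h.1.injOn hm P.one_mem he))

theorem card_eq (h : IsGraph F P f L) : Nat.card L = Nat.card P := by
  refine Nat.card_congr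
    { toFun := fun a => ⟨(a.1.2 : Ω), ((h.2 _).1 a.2).1⟩
      invFun := fun x => ⟨_, h.mk_mem x.2⟩
      left_inv := fun a => Subtype.ext (Prod.ext (Subtype.ext ((h.2 _).1 a.2).2) (Subtype.ext rfl))
      right_inv := fun x => rfl }

theorem sub (h : IsGraph F P f L) {L' : Subgroup (S × S)} (hle : L' ≤ L) :
    IsGraph F (rproj L') f L' := by
  have hle' : rproj L' ≤ P := by
    rintro _ ⟨a, ha, rfl⟩
    exact ((h.2 a).1 (hle ha)).1
  refine ⟨h.1.mono hle', fun a => ⟨fun ha => ⟨⟨a, ha, rfl⟩, ((h.2 a).1 (hle ha)).2⟩, ?_⟩⟩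
  rintro ⟨⟨b, hb, hb2⟩, he⟩
  have hab : a = b := by
    refine Prod.ext (Subtype.ext ?_) (Subtype.ext hb2.symm)
    rw [← he, ← ((h.2 b).1 (hle hb)).2, show (a.2 : Ω) = (b.2 : Ω) from hb2.symm]
  rwa [hab]

theorem conj (h : IsGraph F P f L) (m : S × S) :
    IsGraph F (P.map (MulAut.conj (m.2 : Ω)).toMonoidHom)
      (fun y => (m.1 : Ω) * f ((m.2 : Ω)⁻¹ * y * m.2) * (m.1 : Ω)⁻¹)
      (L.map (MulAut.conj m).toMonoidHom) := by
  have hP' : P.map (MulAut.conj (m.2 : Ω)).toMonoidHom ≤ S := by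
    rintro _ ⟨x, hx, rfl⟩
    exact S.mul_mem (S.mul_mem m.2.2 (h.1.dom_le hx)) (S.inv_mem m.2.2)
  have hm1 : IsMap F (P.map (MulAut.conj (m.2 : Ω)).toMonoidHom)
      (fun y => (m.2 : Ω)⁻¹ * y * m.2) :=
    (isMap_conj (F := F) hP' (S.inv_mem m.2.2)).congr fun y _ => by simp
  have hmaps : ∀ y ∈ P.map (MulAut.conj (m.2 : Ω)).toMonoidHom, (m.2 : Ω)⁻¹ * y * m.2 ∈ P := by
    rintro _ ⟨x, hx, rfl⟩
    simpa [mul_assoc] using hx
  have h3 := (hm1.comp h.1 hmaps).comp (isMap_conj (F := F) (P := S) le_rfl m.1.2)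
    fun y hy => h.1.apply_mem (hmaps y hy)
  refine ⟨h3.congr fun y _ => rfl, fun a => ⟨?_, ?_⟩⟩
  · rintro ⟨b, hb, rfl⟩
    obtain ⟨hb1, hb2⟩ := (h.2 b).1 hb
    refine ⟨⟨b.2, hb1, rfl⟩, ?_⟩
    show (m.1 : Ω) * f ((m.2 : Ω)⁻¹ * ((m.2 : Ω) * b.2 * (m.2 : Ω)⁻¹) * m.2) * (m.1 : Ω)⁻¹ =
      (m.1 : Ω) * b.1 * (m.1 : Ω)⁻¹
    rw [show (m.2 : Ω)⁻¹ * ((m.2 : Ω) * b.2 * (m.2 : Ω)⁻¹) * m.2 = b.2 by group, hb2]
  · rintro ⟨ha, he⟩
    refine ⟨m⁻¹ * a * m, (h.2 _).2 ⟨?_, ?_⟩, by simp [mul_assoc]⟩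
    · simpa using hmaps _ ha
    · show f ((m.2 : Ω)⁻¹ * a.2 * m.2) = (m.1 : Ω)⁻¹ * a.1 * m.1
      rw [← he]; group

end IsGraph

theorem graphs_sub {L L' : Subgroup (S × S)} (hL : L ∈ graphs F) (h : L' ≤ L) : L' ∈ graphs F := by
  obtain ⟨P, f, hf⟩ := hL
  exact ⟨_, _, hf.sub h⟩

theorem graphs_conj {L : Subgroup (S × S)} (hL : L ∈ graphs F) (m : S × S) :
    L.map (MulAut.conj m).toMonoidHom ∈ graphs F := by
  obtain ⟨P, f, hf⟩ := hL
  exact ⟨_, _, hf.conj m⟩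

/-- `X` is left stable at `R`. -/
def StableAt (F : FusionSystem S) (X : Type u) [MulAction (S × S) X] (R : Subgroup Ω) : Prop :=
  ∀ f f' L L', IsGraph F R f L → IsGraph F R f' L' → mark X L = mark X L'

theorem mark_eq_zero {X : Type u} [MulAction (S × S) X] [Finite X]
    (hst : ∀ z : X, MulAction.stabilizer (S × S) z ∈ graphs F) {L : Subgroup (S × S)}
    (hL : L ∉ graphs F) : mark X L = 0 := by
  by_contra h
  obtain ⟨z, hz⟩ := (mark_pos_iff L).1 (Nat.pos_of_ne_zero h)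
  exact hL (graphs_sub (hst z) hz)

/-- Change of the left coordinate of the normalizer of a graph by a receptive extension. -/
theorem exists_shift {R Q : Subgroup Ω} {f f₀ : Ω → Ω} {L L₀ : Subgroup (S × S)}
    (hL : IsGraph F R f L) (hL₀ : IsGraph F R f₀ L₀) (hQ : F.IsReceptive Q) (hQ₀ : IsIso F R Q f₀)
    (h₀ : IsMap F (normalizerIn S R) f₀) :
    ∃ (M₁ : Subgroup Ω) (θ : Ω → Ω) (Θ : Subgroup.normalizer (L : Set (S × S)) →* S × S),
      IsMap F M₁ θ ∧ lproj (Subgroup.normalizer (L : Set (S × S))) ≤ M₁ ∧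
      (∀ n, ((Θ n).1 : Ω) = θ (n : S × S).1 ∧ (Θ n).2 = (n : S × S).2) ∧
      (L.subgroupOf _).map Θ = L₀ := by
  obtain ⟨Q₁, hQ₁⟩ := hL.1.exists_image
  obtain ⟨g, hg, hgf, hfg⟩ := hQ₁.exists_inv
  have hiso : IsIso F Q₁ Q (f₀ ∘ g) := hg.comp hQ₀
  set N := Subgroup.normalizer (L : Set (S × S)) with hN
  have hnorm : ∀ n ∈ N, ∀ x ∈ R, (n.2 : Ω) * x * (n.2 : Ω)⁻¹ ∈ R ∧
      f ((n.2 : Ω) * x * (n.2 : Ω)⁻¹) = (n.1 : Ω) * f x * (n.1 : Ω)⁻¹ := fun n hn x hx => by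
    have := (hL.2 _).1 ((Subgroup.mem_normalizer_iff.1 hn _).1 (hL.mk_mem hx))
    exact this
  have hM : IsExtendable S Q₁ (f₀ ∘ g) (lproj N) := by
    refine ⟨?_, ?_⟩
    · rintro _ ⟨n, -, rfl⟩; exact n.1.2
    rintro _ ⟨n, hn, rfl⟩
    have hQ₁n : ∀ y ∈ Q₁, (n.1 : Ω) * y * (n.1 : Ω)⁻¹ ∈ Q₁ := fun y hy => by
      obtain ⟨x, hx, rfl⟩ := hQ₁.exists_preimage hy
      obtain ⟨h1, h2⟩ := hnorm n hn x hx
      rw [← h2]; exact hQ₁.mem h1
    have hQ₁n' : ∀ y ∈ Q₁, (n.1 : Ω)⁻¹ * y * n.1 ∈ Q₁ := fun y hy => by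
      obtain ⟨x, hx, rfl⟩ := hQ₁.exists_preimage hy
      obtain ⟨h1, h2⟩ := hnorm n⁻¹ (N.inv_mem hn) x hx
      rw [show ((n⁻¹).1 : Ω) = (n.1 : Ω)⁻¹ from rfl, inv_inv] at h2
      rw [← h2]; exact hQ₁.mem h1
    refine ⟨Subgroup.mem_normalizer_iff.2 fun y => ⟨hQ₁n y, fun hy => ?_⟩,
      f₀ n.2, h₀.apply_mem ⟨n.2.2, ?_⟩, fun y hy => ?_⟩
    · have := hQ₁n' _ hy
      simpa [mul_assoc] using this
    · refine Subgroup.mem_normalizer_iff.2 fun x => ⟨fun hx => (hnorm n hn x hx).1, fun hx => ?_⟩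
      have := (hnorm n⁻¹ (N.inv_mem hn) _ hx).1
      simpa [mul_assoc] using this
    · obtain ⟨x, hx, rfl⟩ := hQ₁.exists_preimage hy
      obtain ⟨h1, h2⟩ := hnorm n hn x hx
      show f₀ (g ((n.1 : Ω) * f x * (n.1 : Ω)⁻¹)) = f₀ n.2 * f₀ (g (f x)) * (f₀ n.2)⁻¹
      rw [← h2, hgf _ h1, hgf _ hx]
      refine h₀.map_conj ⟨n.2.2, Subgroup.mem_normalizer_iff.2 fun x => ⟨fun hx => (hnorm n hn x hx).1,
        fun hx => ?_⟩⟩ ⟨hL.1.dom_le hx, Subgroup.le_normalizer hx⟩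
      have := (hnorm n⁻¹ (N.inv_mem hn) _ hx).1
      simpa [mul_assoc] using this
  obtain ⟨θ, hθ, heq⟩ := receptive_extend hQ hiso hM
  have hsub : lproj N ≤ Q₁ ⊔ lproj N := le_sup_right
  have hdom : ∀ n : N, ((n : S × S).1 : Ω) ∈ Q₁ ⊔ lproj N := fun n => hsub ⟨(n : S × S), n.2, rfl⟩
  let Θ : N →* S × S :=
    { toFun := fun n => (⟨θ (n : S × S).1, hθ.apply_mem (hdom n)⟩, (n : S × S).2)
      map_one' := Prod.ext (Subtype.ext hθ.map_one) rfl
      map_mul' := fun a b => Prod.ext (Subtype.ext (hθ.map_mul (hdom a) (hdom b))) rfl }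
  refine ⟨Q₁ ⊔ lproj N, θ, Θ, hθ, hsub, fun n => ⟨rfl, rfl⟩, ?_⟩
  ext a
  constructor
  · rintro ⟨n, hn, rfl⟩
    obtain ⟨h1, h2⟩ := (hL.2 _).1 hn
    refine (hL₀.2 _).2 ⟨h1, ?_⟩
    show f₀ ((n : S × S).2 : Ω) = θ ((n : S × S).1 : Ω)
    change ((n : S × S).2 : Ω) ∈ R at h1
    change f ((n : S × S).2 : Ω) = ((n : S × S).1 : Ω) at h2
    rw [← h2, heq (hQ₁.mem h1)]
    exact (congrArg f₀ (hgf _ h1)).symm
  · intro ha
    obtain ⟨h1, h2⟩ := (hL₀.2 _).1 ha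
    refine ⟨⟨_, Subgroup.le_normalizer (hL.mk_mem h1)⟩, hL.mk_mem h1, Prod.ext (Subtype.ext ?_) rfl⟩
    show θ (f a.2) = a.1
    rw [heq (hQ₁.mem h1), Function.comp_apply, hgf _ h1, h2]

/-- The marks at two graphs over `R` are congruent, given stability above `R`. -/
theorem mark_graph_modEq [Finite S] {X : Type u} [MulAction (S × S) X] [Finite X]
    (hst : ∀ z : X, MulAction.stabilizer (S × S) z ∈ graphs F) {R Q : Subgroup Ω}
    (habove : ∀ R' : Subgroup Ω, Nat.card R < Nat.card R' → StableAt F X R') {f f₀ : Ω → Ω}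
    {L L₀ : Subgroup (S × S)} (hL : IsGraph F R f L) (hL₀ : IsGraph F R f₀ L₀)
    (hQ : F.IsReceptive Q) (hQ₀ : IsIso F R Q f₀) (h₀ : IsMap F (normalizerIn S R) f₀) :
    mark X L ≡ mark X L₀ [MOD L.relIndex (Subgroup.normalizer (L : Set (S × S)))] := by
  obtain ⟨M₁, θ, Θ, hθ, hlp, hΘ, hmap⟩ := exists_shift hL hL₀ hQ hQ₀ h₀
  refine mark_modEq Subgroup.le_normalizer le_rfl Θ hmap ?_
  generalize hN : Subgroup.normalizer (L : Set (S × S)) = N at Θ hlp hΘ hmap ⊢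
  intro n hn
  let K : Subgroup N := L.subgroupOf N ⊔ Subgroup.zpowers n
  have hK1 : K.map N.subtype = L ⊔ Subgroup.zpowers (n : S × S) := by
    rw [Subgroup.map_sup, Subgroup.map_subgroupOf_eq_of_le (hN ▸ Subgroup.le_normalizer),
      MonoidHom.map_zpowers]
    rfl
  have hK2 : K.map Θ = L₀ ⊔ Subgroup.zpowers (Θ n) := by
    rw [Subgroup.map_sup, MonoidHom.map_zpowers]
    exact congrArg (· ⊔ _) hmap
  rw [← hK1, ← hK2]
  have hdom : ∀ k : N, ((k : S × S).1 : Ω) ∈ M₁ := fun k => hlp ⟨(k : S × S), k.2, rfl⟩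
  have hgt : ∀ P h, IsGraph F P h (K.map N.subtype) → Nat.card R < Nat.card P := fun P h hg => by
    rw [← hL.card_eq, ← hg.card_eq]
    refine lt_of_le_of_ne (Subgroup.card_le_of_le (hK1 ▸ le_sup_left)) fun he => hn ?_
    rw [Subgroup.eq_of_le_of_card_ge (hK1 ▸ le_sup_left : L ≤ K.map N.subtype) he.ge, hK1]
    exact le_sup_right (a := L) (Subgroup.mem_zpowers _)
  have key : ∀ P h, IsGraph F P h (K.map N.subtype) →
      IsGraph F P (θ ∘ h) (K.map Θ) := by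
    intro P h hg
    have hmaps : ∀ x ∈ P, h x ∈ M₁ := fun x hx => by
      obtain ⟨k, -, hk⟩ := hg.mk_mem hx
      have e : ((k : S × S).1 : Ω) = h x := congrArg (fun a : S × S => (a.1 : Ω)) hk
      exact e ▸ hdom k
    refine ⟨hg.1.comp hθ hmaps, fun a => ⟨?_, ?_⟩⟩
    · rintro ⟨k, hk, rfl⟩
      obtain ⟨h1, h2⟩ := (hg.2 _).1 ⟨k, hk, rfl⟩
      change ((k : S × S).2 : Ω) ∈ P at h1
      change h ((k : S × S).2 : Ω) = ((k : S × S).1 : Ω) at h2
      rw [(hΘ k).2, (hΘ k).1]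
      exact ⟨h1, congrArg θ h2⟩
    · rintro ⟨h1, h2⟩
      obtain ⟨k, hk, he⟩ := hg.mk_mem h1
      refine ⟨k, hk, Prod.ext (Subtype.ext ?_) ?_⟩
      · rw [(hΘ k).1, ← h2]
        exact congrArg (fun b : S × S => θ (b.1 : Ω)) he
      · rw [(hΘ k).2]
        exact (congrArg Prod.snd he :)
  have key' : K.map Θ ∈ graphs F → K.map N.subtype ∈ graphs F := by
    rintro ⟨P, h, hg⟩
    obtain ⟨Q₂, hQ₂⟩ := hθ.exists_image
    obtain ⟨g, hgiso, hgθ, -⟩ := hQ₂.exists_inv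
    have hmaps : ∀ x ∈ P, h x ∈ Q₂ := fun x hx => by
      obtain ⟨k, -, hk⟩ := hg.mk_mem hx
      have e : θ ((k : S × S).1 : Ω) = h x := by
        rw [← (hΘ k).1]; exact congrArg (fun a : S × S => (a.1 : Ω)) hk
      exact e ▸ hQ₂.mem (hdom k)
    refine ⟨P, g ∘ h, hg.1.comp hgiso.1 hmaps, fun a => ⟨?_, ?_⟩⟩
    · rintro ⟨k, hk, rfl⟩
      obtain ⟨h1, h2⟩ := (hg.2 _).1 ⟨k, hk, rfl⟩
      rw [(hΘ k).2] at h1 h2
      rw [(hΘ k).1] at h2
      refine ⟨h1, ?_⟩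
      show g (h ((k : S × S).2 : Ω)) = ((k : S × S).1 : Ω)
      rw [h2, hgθ _ (hdom k)]
    · rintro ⟨h1, h2⟩
      obtain ⟨k, hk, he⟩ := hg.mk_mem h1
      refine ⟨k, hk, Prod.ext (Subtype.ext ?_) ?_⟩
      · show ((k : S × S).1 : Ω) = (a.1 : Ω)
        rw [← h2, Function.comp_apply, ← hgθ _ (hdom k)]
        congr 1
        rw [← (hΘ k).1]
        exact congrArg (fun b : S × S => (b.1 : Ω)) he
      · show (k : S × S).2 = a.2
        rw [← (hΘ k).2]
        exact (congrArg Prod.snd he :)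
  by_cases hg : K.map N.subtype ∈ graphs F
  · obtain ⟨P, h, hg⟩ := hg
    exact habove P (hgt P h hg) _ _ _ _ hg (key P h hg)
  · rw [mark_eq_zero hst hg, mark_eq_zero hst fun h => hg (key' h)]

end Cfsg.Agent.FusTransfer
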