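import Cfsg.Agent.FusTransfer.Biset

/-!
The transfer of a saturated fusion system into a commutative group.
-/

set_option autoImplicit false
set_option linter.style.haveILetI false

namespace Cfsg.Agent.FusTransfer

open Cfsg Cfsg.Agent.Fusion Cfsg.Agent.Fus93

universe u v

variable {Ω : Type u} [Group Ω] {S : Subgroup Ω} {F : FusionSystem S}

/-- Right orbits. -/
def rightSetoid (S : Subgroup Ω) (X : Type u) [MulAction (S × S) X] : Setoid X where
  r x y := ∃ t : S, ((1, t) : S × S) • x = y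
  iseqv :=
    { refl := fun x => ⟨1, one_smul (S × S) x⟩
      symm := fun {x y} ⟨t, h⟩ => ⟨t⁻¹, by
        rw [← h, show ((1, t⁻¹) : S × S) = ((1, t) : S × S)⁻¹ by simp, inv_smul_smul]⟩
      trans := fun {x y z} ⟨t, h⟩ ⟨t', h'⟩ => ⟨t' * t, by rw [← h', ← h, smul_smul]; simp⟩ }

/-- The permutations commuting with the right action. -/
def rightComm (S : Subgroup Ω) (X : Type u) [MulAction (S × S) X] : Subgroup (Equiv.Perm X) where
  carrier := {g | ∀ (t : S) (x : X), g (((1, t) : S × S) • x) = ((1, t) : S × S) • g x}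
  one_mem' := fun _ _ => rfl
  mul_mem' {g g'} hg hg' := fun t x => by
    simp only [Equiv.Perm.mul_apply]; rw [hg' t x, hg t (g' x)]
  inv_mem' {g} hg := fun t x => g.injective (by rw [hg]; simp [Equiv.Perm.inv_def])

/-- The left action as right equivariant permutations. -/
def leftRep (S : Subgroup Ω) (X : Type u) [MulAction (S × S) X] : S →* rightComm S X :=
  ((MulAction.toPermHom (S × S) X).comp (MonoidHom.inl S S)).codRestrict _ fun s t x => by
    show ((s, 1) : S × S) • ((1, t) : S × S) • x = ((1, t) : S × S) • ((s, 1) : S × S) • x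
    rw [smul_smul, smul_smul]
    simp

theorem leftRep_apply (X : Type u) [MulAction (S × S) X] (s : S) (x : X) :
    (leftRep S X s : Equiv.Perm X) x = ((s, 1) : S × S) • x := rfl

/-- Two restrictions of the left action along an `F`-map are conjugate among right equivariant
permutations. -/
theorem exists_conj_leftRep [Finite S] {X : Type u} [MulAction (S × S) X] [Finite X]
    (hst : ∀ z : X, MulAction.stabilizer (S × S) z ∈ graphs F) (hsta : ∀ R, StableAt F X R)
    {P : Subgroup Ω} {f : Ω → Ω} (hf : IsMap F P f) :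
    ∃ g : rightComm S X, ∀ (x : Ω) (hx : x ∈ P),
      g * leftRep S X ⟨x, hf.dom_le hx⟩ = leftRep S X ⟨f x, hf.apply_mem hx⟩ * g := by
  have hfin : Finite P := finite_of_le hf.dom_le
  let i₁ : P × S →* S × S := MonoidHom.prodMap (Subgroup.inclusion hf.dom_le) (MonoidHom.id S)
  let fh : P →* S :=
    { toFun := fun x => ⟨f x, hf.apply_mem x.2⟩
      map_one' := Subtype.ext hf.map_one
      map_mul' := fun a b => Subtype.ext (hf.map_mul a.2 b.2) }
  let i₂ : P × S →* S × S := MonoidHom.prodMap fh (MonoidHom.id S)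
  let A₁ : MulAction (P × S) X := MulAction.compHom X i₁
  let A₂ : MulAction (P × S) X := MulAction.compHom X i₂
  have hm₁ : ∀ K : Subgroup (P × S), @mark (P × S) _ X A₁ K = mark X (K.map i₁) := fun K => by
    refine Nat.card_congr (Equiv.subtypeEquivRight fun x => ⟨?_, fun h k hk => h _ ⟨k, hk, rfl⟩⟩)
    rintro h _ ⟨k, hk, rfl⟩
    exact h k hk
  have hm₂ : ∀ K : Subgroup (P × S), @mark (P × S) _ X A₂ K = mark X (K.map i₂) := fun K => by
    refine Nat.card_congr (Equiv.subtypeEquivRight fun x => ⟨?_, fun h k hk => h _ ⟨k, hk, rfl⟩⟩)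
    rintro h _ ⟨k, hk, rfl⟩
    exact h k hk
  have hmark : ∀ K : Subgroup (P × S), @mark (P × S) _ X A₁ K = @mark (P × S) _ X A₂ K := by
    intro K
    rw [hm₁, hm₂]
    have key : ∀ R h, IsGraph F R h (K.map i₁) → IsGraph F R (f ∘ h) (K.map i₂) := by
      intro R h hg
      have hmaps : ∀ x ∈ R, h x ∈ P := fun x hx => by
        obtain ⟨k, -, hk⟩ := hg.mk_mem hx
        have e : ((k.1 : P) : Ω) = h x := congrArg (fun a : S × S => (a.1 : Ω)) hk
        exact e ▸ k.1.2
      refine ⟨hg.1.comp hf hmaps, fun a => ⟨?_, ?_⟩⟩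
      · rintro ⟨k, hk, rfl⟩
        obtain ⟨h1, h2⟩ := (hg.2 _).1 ⟨k, hk, rfl⟩
        exact ⟨h1, congrArg f h2⟩
      · rintro ⟨h1, h2⟩
        obtain ⟨k, hk, he⟩ := hg.mk_mem h1
        refine ⟨k, hk, Prod.ext (Subtype.ext ?_) (congrArg Prod.snd he :)⟩
        show f (k.1 : Ω) = (a.1 : Ω)
        rw [← h2]
        exact (congrArg (fun b : S × S => f (b.1 : Ω)) he :)
    have key' : K.map i₂ ∈ graphs F → K.map i₁ ∈ graphs F := by
      rintro ⟨R, h, hg⟩
      obtain ⟨Q, hQ⟩ := hf.exists_image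
      obtain ⟨g, hgiso, hgf, -⟩ := hQ.exists_inv
      have hmaps : ∀ x ∈ R, h x ∈ Q := fun x hx => by
        obtain ⟨k, -, hk⟩ := hg.mk_mem hx
        have e : f ((k.1 : P) : Ω) = h x := congrArg (fun a : S × S => (a.1 : Ω)) hk
        exact e ▸ hQ.mem k.1.2
      refine ⟨R, g ∘ h, hg.1.comp hgiso.1 hmaps, fun a => ⟨?_, ?_⟩⟩
      · rintro ⟨k, hk, rfl⟩
        obtain ⟨h1, h2⟩ := (hg.2 _).1 ⟨k, hk, rfl⟩
        refine ⟨h1, ?_⟩
        change h (k.2 : Ω) = f (k.1 : Ω) at h2
        show g (h (k.2 : Ω)) = (k.1 : Ω)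
        rw [h2, hgf _ k.1.2]
      · rintro ⟨h1, h2⟩
        obtain ⟨k, hk, he⟩ := hg.mk_mem h1
        refine ⟨k, hk, Prod.ext (Subtype.ext ?_) (congrArg Prod.snd he :)⟩
        show (k.1 : Ω) = (a.1 : Ω)
        rw [← h2, Function.comp_apply, ← hgf _ k.1.2]
        congr 1
        exact (congrArg (fun b : S × S => (b.1 : Ω)) he :)
    by_cases hg : K.map i₁ ∈ graphs F
    · obtain ⟨R, h, hg⟩ := hg
      exact hsta R _ _ _ _ hg (key R h hg)
    · rw [mark_eq_zero hst hg, mark_eq_zero hst fun h => hg (key' h)]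
  obtain ⟨e, he⟩ := @exists_equivariant_equiv (P × S) _ _ (Nat.card X) X X A₁ A₂ _ _ le_rfl hmark
  refine ⟨⟨e, fun t x => ?_⟩, fun x hx => Subtype.ext (Equiv.ext fun z => ?_)⟩
  · have h : e ((i₁ (1, t)) • x) = i₂ (1, t) • e x := he (1, t) x
    rwa [show i₁ (1, t) = ((1, t) : S × S) from Prod.ext (Subtype.ext rfl) rfl,
      show i₂ (1, t) = ((1, t) : S × S) from Prod.ext (Subtype.ext hf.map_one) rfl] at h
  · exact he (⟨x, hx⟩, 1) z

/-- The transfer: a homomorphism killing the focal subgroup, equal to `ψ ^ m` on every element whose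
fusion `ψ` does not see, with `m` prime to `p`. -/
theorem exists_transfer [Finite S] (p : ℕ) [Fact p.Prime] (hS : IsPGroup p S) (hF : F.IsSaturated p) :
    ∃ m : ℕ, ¬ p ∣ m ∧ ∀ {A : Type v} [CommGroup A] (ψ : S →* A), ∃ τ : S →* A,
      (∀ (P : Subgroup Ω) (f : Ω → Ω) (hf : IsMap F P f) (x : Ω) (hx : x ∈ P),
        τ ⟨f x, hf.apply_mem hx⟩ = τ ⟨x, hf.dom_le hx⟩) ∧
      ∀ z : S, (∀ (P : Subgroup Ω) (f : Ω → Ω), IsMap F P f → ∀ t : S, (t : Ω) ∈ P → ∀ i : ℤ,
        f t = ((z ^ i : S) : Ω) → ψ t = ψ (z ^ i)) → τ z = ψ z ^ m := by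
  classical
  obtain ⟨X, _, _, hst, hsta, m, hXm, hm⟩ := exists_biset (F := F) p hS hF
  letI rsX : Setoid X := rightSetoid S X
  have hfree : ∀ (t : S) (x : X), ((1, t) : S × S) • x = x → t = 1 := fun t x h => by
    obtain ⟨P, f, hg⟩ := hst x
    exact congrArg Prod.snd (hg.eq_one_of_left (MulAction.mem_stabilizer_iff.2 h) rfl)
  haveI : Fintype (Quotient rsX) := Fintype.ofFinite _
  have hex : ∀ x : X, ∃ t : S, ((1, t) : S × S) • (Quotient.mk rsX x).out = x := fun x =>
    Quotient.mk_out (s := rsX) x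
  choose crd hcrd using hex
  have hcrd_smul : ∀ (t : S) (o : Quotient rsX), crd (((1, t) : S × S) • o.out) = t ∧
      Quotient.mk rsX (((1, t) : S × S) • o.out) = o := fun t o => by
    have h1 : Quotient.mk rsX (((1, t) : S × S) • o.out) = o :=
      (Quotient.sound (s := rsX) ⟨t, rfl⟩).symm.trans o.out_eq
    refine ⟨?_, h1⟩
    have h2 := hcrd (((1, t) : S × S) • o.out)
    rw [h1] at h2
    refine inv_mul_eq_one.1 (hfree _ o.out ?_) |>.symm
    have h3 : ((1, crd (((1, t) : S × S) • o.out)) : S × S) • o.out = ((1, t) : S × S) • o.out := h2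
    rw [show ((1, t⁻¹ * crd (((1, t) : S × S) • o.out)) : S × S) =
      ((1, t) : S × S)⁻¹ * (1, crd (((1, t) : S × S) • o.out)) by simp, mul_smul, h3, inv_smul_smul]
  have hm' : Nat.card (Quotient rsX) = m := by
    have h1 : Nat.card X = Nat.card (Quotient rsX) * Nat.card S := by
      rw [← Nat.card_prod]
      refine Nat.card_congr
        { toFun := fun x => (Quotient.mk rsX x, crd x)
          invFun := fun q => ((1, q.2) : S × S) • q.1.out
          left_inv := fun x => hcrd x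
          right_inv := fun q => Prod.ext (hcrd_smul q.2 q.1).2 (hcrd_smul q.2 q.1).1 }
    rw [hXm, mul_comm] at h1
    exact (Nat.eq_of_mul_eq_mul_right Nat.card_pos h1).symm
  refine ⟨m, hm, fun {A} _ ψ => ?_⟩
  let σ : rightComm S X → Quotient rsX → Quotient rsX := fun g o => Quotient.mk rsX ((g : Equiv.Perm X) o.out)
  let fst : rightComm S X → Quotient rsX → S := fun g o => crd ((g : Equiv.Perm X) o.out)
  have hstep : ∀ (g : rightComm S X) o, (g : Equiv.Perm X) o.out = ((1, fst g o) : S × S) • (σ g o).out :=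
    fun g o => (hcrd _).symm
  have hcomp : ∀ g g' o, σ (g * g') o = σ g (σ g' o) ∧ fst (g * g') o = fst g' o * fst g (σ g' o) := by
    intro g g' o
    have h : ((g * g' : rightComm S X) : Equiv.Perm X) o.out =
        ((1, fst g' o * fst g (σ g' o)) : S × S) • (σ g (σ g' o)).out := by
      rw [show ((g * g' : rightComm S X) : Equiv.Perm X) o.out = (g : Equiv.Perm X) ((g' : Equiv.Perm X) o.out) from rfl,
        hstep g' o, g.2 (fst g' o) ((σ g' o).out), hstep g, smul_smul]
      simp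
    constructor
    · show Quotient.mk rsX _ = _
      rw [h]; exact (hcrd_smul _ _).2
    · show crd _ = _
      rw [h]; exact (hcrd_smul _ _).1
  have hσ1 : ∀ o, σ 1 o = o := fun o => o.out_eq
  have hσbij : ∀ g, Function.Bijective (σ g) := fun g =>
    Function.bijective_iff_has_inverse.2 ⟨σ g⁻¹,
      fun o => by rw [← (hcomp g⁻¹ g o).1, inv_mul_cancel, hσ1],
      fun o => by rw [← (hcomp g g⁻¹ o).1, mul_inv_cancel, hσ1]⟩
  let χ : rightComm S X →* A := MonoidHom.mk' (fun g => ∏ o, ψ (fst g o)) fun g g' => by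
    calc ∏ o, ψ (fst (g * g') o) = ∏ o, (ψ (fst g' o) * ψ (fst g (σ g' o))) :=
          Finset.prod_congr rfl fun o _ => by rw [(hcomp g g' o).2, map_mul]
      _ = (∏ o, ψ (fst g' o)) * ∏ o, ψ (fst g (σ g' o)) := Finset.prod_mul_distrib
      _ = (∏ o, ψ (fst g o)) * ∏ o, ψ (fst g' o) := by
          rw [mul_comm, (hσbij g').prod_comp fun o => ψ (fst g o)]
  refine ⟨(χ.comp (leftRep S X))⁻¹, fun P f hf x hx => ?_, fun z hz => ?_⟩
  · obtain ⟨g, hg⟩ := exists_conj_leftRep hst hsta hf
    have h := congrArg χ (hg x hx)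
    rw [map_mul, map_mul, mul_comm] at h
    show (χ _)⁻¹ = (χ _)⁻¹
    rw [mul_right_cancel h]
  · -- a potential for `⟨z⟩ × S`
    let ws : Setoid X :=
      { r := fun x y => ∃ (i : ℤ) (t : S), ((z ^ i, t) : S × S) • x = y
        iseqv :=
          { refl := fun x => ⟨0, 1, by rw [zpow_zero]; exact one_smul (S × S) x⟩
            symm := fun {x y} ⟨i, t, h⟩ => ⟨-i, t⁻¹, by
              rw [← h, show ((z ^ (-i), t⁻¹) : S × S) = ((z ^ i, t) : S × S)⁻¹ by simp, inv_smul_smul]⟩
            trans := fun {x y w} ⟨i, t, h⟩ ⟨j, t', h'⟩ => ⟨j + i, t' * t, by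
              rw [← h', ← h, smul_smul]; simp [zpow_add]⟩ } }
    have hstab : ∀ (i : ℤ) (t : S) (x : X), ((z ^ i, t) : S × S) • x = x → ψ t = ψ (z ^ i) := by
      intro i t x h
      obtain ⟨P, f, hg⟩ := hst x
      obtain ⟨h1, h2⟩ := (hg.2 _).1 (MulAction.mem_stabilizer_iff.2 h)
      exact hz P f hg.1 t h1 i h2
    have hwex : ∀ x : X, ∃ (i : ℤ) (t : S), ((z ^ i, t) : S × S) • (Quotient.mk ws x).out = x :=
      fun x => Quotient.mk_out (s := ws) x
    choose wi wt hw using hwex
    let pot : X → A := fun x => ψ (z ^ wi x) / ψ (wt x)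
    have hpot : ∀ (i : ℤ) (t : S) (x : X),
        pot (((z ^ i, t) : S × S) • x) = ψ (z ^ i) / ψ t * pot x := by
      intro i t x
      set y := ((z ^ i, t) : S × S) • x with hy
      have hq : Quotient.mk ws y = Quotient.mk ws x := (Quotient.sound (s := ws) ⟨i, t, rfl⟩).symm
      have h1 : ((z ^ wi y, wt y) : S × S) • (Quotient.mk ws x).out = y := hq ▸ hw y
      have h2 : ((z ^ (i + wi x), t * wt x) : S × S) • (Quotient.mk ws x).out = y := by
        rw [zpow_add, show ((z ^ i * z ^ wi x, t * wt x) : S × S) = (z ^ i, t) * (z ^ wi x, wt x) from rfl,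
          mul_smul, hw x]
      have h3 : ((z ^ (-(i + wi x) + wi y), (t * wt x)⁻¹ * wt y) : S × S) • (Quotient.mk ws x).out =
          (Quotient.mk ws x).out := by
        rw [show ((z ^ (-(i + wi x) + wi y), (t * wt x)⁻¹ * wt y) : S × S) =
          ((z ^ (i + wi x), t * wt x) : S × S)⁻¹ * (z ^ wi y, wt y) by
            rw [zpow_add, zpow_neg]; rfl, mul_smul, h1, ← h2, inv_smul_smul]
      have h4 := hstab _ _ _ h3
      rw [zpow_add, zpow_neg, map_mul ψ _ (wt y), map_inv, map_mul ψ t, map_mul ψ _ (z ^ wi y),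
        map_inv, zpow_add, map_mul, inv_mul_eq_iff_eq_mul] at h4
      show ψ (z ^ wi y) / ψ (wt y) = ψ (z ^ i) / ψ t * (ψ (z ^ wi x) / ψ (wt x))
      have hsolve : ∀ a b c e f w : A, f = a * b * ((c * e)⁻¹ * w) → w / f = c / a * (e / b) := by
        intro a b c e f w hf
        rw [hf, div_mul_div_comm, div_eq_div_iff_mul_eq_mul, mul_left_comm (c * e) (a * b),
          mul_inv_cancel_left, mul_comm]
      exact hsolve _ _ _ _ _ _ h4
    have hone : ∀ o, ψ (fst (leftRep S X z) o) =
        (ψ z)⁻¹ * (pot (σ (leftRep S X z) o).out / pot o.out) := by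
      intro o
      have h := hstep (leftRep S X z) o
      rw [leftRep_apply] at h
      have h1 := congrArg pot h
      rw [show ((z, 1) : S × S) = (z ^ (1 : ℤ), 1) by rw [zpow_one], hpot,
        show ((1, fst (leftRep S X z) o) : S × S) = (z ^ (0 : ℤ), fst (leftRep S X z) o) by rw [zpow_zero],
        hpot, zpow_one, zpow_zero, map_one, div_one, one_div] at h1
      have hsolve : ∀ a b c d : A, a * b = c⁻¹ * d → c = a⁻¹ * (d / b) := fun a b c d h => by
        have hd : d = c * (a * b) := by rw [h, mul_inv_cancel_left]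
        rw [hd, ← mul_assoc c a b, mul_div_assoc, div_self', mul_one, mul_comm c a, inv_mul_cancel_left]
      exact hsolve _ _ _ _ h1
    show (∏ o, ψ (fst (leftRep S X z) o))⁻¹ = ψ z ^ m
    rw [Finset.prod_congr rfl fun o _ => hone o, Finset.prod_mul_distrib, Finset.prod_const,
      Finset.prod_div_distrib, (hσbij _).prod_comp fun o : Quotient rsX => pot o.out, div_self',
      mul_one, Finset.card_univ, ← Nat.card_eq_fintype_card, hm', inv_pow, inv_inv]

end Cfsg.Agent.FusTransfer
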