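import Cfsg.Agent.FusTransfer.Transfer
import Cfsg.Agent.Lib.Fusion.Hyperfocal
import Mathlib.GroupTheory.SemidirectProduct

/-!
The transfer twisted by the quotient of `S` by the hyperfocal subgroup: for a normal `M` of `S`
below `T = hyp(F)` with `⁅T, S⁆ ≤ M`, the map `t ↦ (t M) ^ m` on `T` extends to a homomorphism on
`S`. This is the engine of Tate's theorem.
-/

set_option autoImplicit false
set_option linter.style.haveILetI false

namespace Cfsg.Agent.FusTransfer

open Cfsg Cfsg.Agent.Fusion Cfsg.Agent.Fus93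
open scoped IsMulCommutative commutatorElement

universe u

variable {Ω : Type u} [Group Ω] {S : Subgroup Ω} {F : FusionSystem S}

/-- Every map of `F` is conjugation by an element of `S` modulo the hyperfocal subgroup. -/
theorem exists_conj_mod_hyperfocal [Finite S] {p : ℕ} [Fact p.Prime] (hS : IsPGroup p S)
    (hF : F.IsSaturated p) : ∀ P f, IsMap F P f →
      ∃ g ∈ S, ∀ x ∈ P, (g * x * g⁻¹)⁻¹ * f x ∈ F.hyperfocalSubgroup p := by
  refine alperin_induction_cr hS hF _ ?_ ?_ ?_ ?_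
  · rintro P f f' ⟨g, hg, h⟩ he
    exact ⟨g, hg, fun x hx => he hx ▸ h x hx⟩
  · rintro P Q f f' hf _ ⟨g, hg, h⟩ ⟨g', hg', h'⟩
    refine ⟨g' * g, S.mul_mem hg' hg, fun x hx => ?_⟩
    have h1 := (Subgroup.mem_normalizer_iff.1 (hyperfocal_normalizer (F := F) (p := p) hg') _).1 (h x hx)
    have h2 := mul_mem h1 (h' _ (hf.mem hx))
    have e : (g' * g * x * (g' * g)⁻¹)⁻¹ * f' (f x) =
        g' * ((g * x * g⁻¹)⁻¹ * f x) * g'⁻¹ * ((g' * f x * g'⁻¹)⁻¹ * f' (f x)) := by group
    rw [show (f' ∘ f) x = f' (f x) from rfl, e]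
    exact h2
  · rintro P Q f _ hle ⟨g, hg, h⟩
    exact ⟨g, hg, fun x hx => h x (hle hx)⟩
  · intro E _ _ hEn f hf
    obtain ⟨α, hα, he⟩ := hf.exists_aut
    obtain ⟨β, hβ, g, hg, hgx⟩ := exists_residual_mul_conj hS hF hEn ⟨α, hα⟩
    refine ⟨g, hg.1, fun x hx => ?_⟩
    rw [← he hx, hgx x hx]
    exact hyperfocal_gen_mem hEn.1 β hβ (conj_mem_of_mem_normalizer hg.2 hx)

variable {X : Type u} [MulAction (S × S) X]

theorem exists_crd (hfree : ∀ (t : S) (x : X), ((1, t) : S × S) • x = x → t = 1) :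
    ∃ crd : X → S, (∀ x, ((1, crd x) : S × S) • (Quotient.mk (rightSetoid S X) x).out = x) ∧
      ∀ (t : S) (o : Quotient (rightSetoid S X)), crd (((1, t) : S × S) • o.out) = t ∧
        Quotient.mk (rightSetoid S X) (((1, t) : S × S) • o.out) = o := by
  have hex : ∀ x : X, ∃ t : S, ((1, t) : S × S) • (Quotient.mk (rightSetoid S X) x).out = x :=
    fun x => Quotient.mk_out (s := rightSetoid S X) x
  choose crd hcrd using hex
  refine ⟨crd, hcrd, fun t o => ?_⟩
  have h1 : Quotient.mk (rightSetoid S X) (((1, t) : S × S) • o.out) = o :=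
    (Quotient.sound (s := rightSetoid S X) ⟨t, rfl⟩).symm.trans o.out_eq
  refine ⟨?_, h1⟩
  have h2 := hcrd (((1, t) : S × S) • o.out)
  rw [h1] at h2
  refine (inv_mul_eq_one.1 (hfree _ o.out ?_)).symm
  rw [show ((1, t⁻¹ * crd (((1, t) : S × S) • o.out)) : S × S) =
    ((1, t) : S × S)⁻¹ * (1, crd (((1, t) : S × S) • o.out)) by simp, mul_smul, h2, inv_smul_smul]

variable {T M : Subgroup S} [T.Normal] [M.Normal]

/-- A right equivariant map to `S ⧸ M`. -/
def IsLift (η : X → S ⧸ M) : Prop :=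
  ∀ (b : S) (x : X), η (((1, b) : S × S) • x) = η x * (QuotientGroup.mk' M b)⁻¹

/-- The image of `T` in `S ⧸ M`. -/
abbrev tbar (T M : Subgroup S) [M.Normal] : Subgroup (S ⧸ M) := T.map (QuotientGroup.mk' M)

omit [T.Normal] in
theorem tbar_le_center (hcent : ⁅T, (⊤ : Subgroup S)⁆ ≤ M) : tbar T M ≤ Subgroup.center (S ⧸ M) := by
  rintro _ ⟨t, ht, rfl⟩
  refine Subgroup.mem_center_iff.2 fun y => ?_
  obtain ⟨s, rfl⟩ := QuotientGroup.mk'_surjective M y
  rw [← map_mul, ← map_mul]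
  refine QuotientGroup.eq.2 (hcent ?_)
  rw [show (s * t)⁻¹ * (t * s) = ⁅t⁻¹, s⁻¹⁆ by simp [commutatorElement_def, mul_assoc]]
  exact Subgroup.commutator_mem_commutator (inv_mem ht) (Subgroup.mem_top _)

/-- The pairs `(g, z)` with `η (g x) ≡ z η x` modulo the image of `T`. -/
def tw (η : X → S ⧸ M) (hcent : ⁅T, (⊤ : Subgroup S)⁆ ≤ M) : Subgroup (rightComm S X × (S ⧸ M)) where
  carrier := {g | ∀ x, (η ((g.1 : Equiv.Perm X) x))⁻¹ * g.2 * η x ∈ tbar T M}
  one_mem' := fun x => by simp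
  mul_mem' := fun {g h} hg hh x => by
    have h3 := mul_mem (hg ((h.1 : Equiv.Perm X) x)) (hh x)
    show (η ((g.1 : Equiv.Perm X) ((h.1 : Equiv.Perm X) x)))⁻¹ * (g.2 * h.2) * η x ∈ tbar T M
    convert h3 using 1
    group
  inv_mem' := fun {g} hg x => by
    have h3 := inv_mem (hg (((g.1 : Equiv.Perm X)).symm x))
    show (η (((g.1 : Equiv.Perm X)⁻¹ : Equiv.Perm X) x))⁻¹ * g.2⁻¹ * η x ∈ tbar T M
    rw [Equiv.apply_symm_apply] at h3
    convert h3 using 1
    simp only [mul_inv_rev, inv_inv, mul_assoc]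
    rfl

variable {hcent : ⁅T, (⊤ : Subgroup S)⁆ ≤ M}

omit [T.Normal] in
theorem mem_tw_of {η : X → S ⧸ M} {g : rightComm S X} {z : S ⧸ M}
    (h : ∀ x, (η ((g : Equiv.Perm X) x))⁻¹ * z * η x ∈ tbar T M) : (g, z) ∈ tw η hcent := h

theorem term_smul {η : X → S ⧸ M} (hη : IsLift η) (g : tw η hcent) (b : S) (x : X) :
    (η ((g.1.1 : Equiv.Perm X) (((1, b) : S × S) • x)))⁻¹ * g.1.2 * η (((1, b) : S × S) • x) =
      (η ((g.1.1 : Equiv.Perm X) x))⁻¹ * g.1.2 * η x := by
  rw [g.1.1.2 b x, hη, hη]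
  have hc := Subgroup.mem_center_iff.1 (tbar_le_center hcent (g.2 x)) (QuotientGroup.mk' M b)
  calc (η ((g.1.1 : Equiv.Perm X) x) * (QuotientGroup.mk' M b)⁻¹)⁻¹ * g.1.2 *
        (η x * (QuotientGroup.mk' M b)⁻¹)
      = QuotientGroup.mk' M b * ((η ((g.1.1 : Equiv.Perm X) x))⁻¹ * g.1.2 * η x) *
          (QuotientGroup.mk' M b)⁻¹ := by group
    _ = _ := by rw [hc]; group

/-- `T̄` is commutative. -/
theorem isMulCommutative_tbar (hcent : ⁅T, (⊤ : Subgroup S)⁆ ≤ M) : IsMulCommutative (tbar T M) :=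
  ⟨⟨fun a b => Subtype.ext (Subgroup.mem_center_iff.1 (tbar_le_center hcent b.2) a)⟩⟩

/-- The term of an element of `tw η` at a point, as an element of the image of `T`. -/
def twTerm {η : X → S ⧸ M} (g : tw η hcent) (x : X) : tbar T M :=
  ⟨(η ((g.1.1 : Equiv.Perm X) x))⁻¹ * g.1.2 * η x, g.2 x⟩

/-- The product of the terms over right orbits, as a homomorphism. -/
theorem exists_twProd [Finite X] {η : X → S ⧸ M}
    (hη : IsLift η) [IsMulCommutative (tbar T M)] [Fintype (Quotient (rightSetoid S X))] :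
    ∃ V : tw η hcent →* tbar T M, ∀ g : tw η hcent,
      V g = ∏ o : Quotient (rightSetoid S X), twTerm g o.out := by
  refine ⟨MonoidHom.mk' (fun g : tw η hcent => ∏ o : Quotient (rightSetoid S X), twTerm g o.out)
    fun g h => ?_, fun g => rfl⟩
  let σ : Quotient (rightSetoid S X) → Quotient (rightSetoid S X) :=
    fun o => Quotient.mk _ ((h.1.1 : Equiv.Perm X) o.out)
  have hσ : Function.Bijective σ := by
    refine Finite.injective_iff_bijective.1 fun o o' he => ?_
    obtain ⟨t, ht⟩ := Quotient.exact (s := rightSetoid S X) he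
    rw [← h.1.1.2 t, (h.1.1 : Equiv.Perm X).injective.eq_iff] at ht
    rw [← o.out_eq, ← o'.out_eq]
    exact Quotient.sound (s := rightSetoid S X) ⟨t, ht⟩
  have hterm : ∀ o : Quotient (rightSetoid S X), twTerm (g * h) o.out =
      twTerm g (σ o).out * twTerm h o.out := fun o => by
    obtain ⟨b, hb⟩ := Quotient.mk_out (s := rightSetoid S X) ((h.1.1 : Equiv.Perm X) o.out)
    have hterm' := term_smul hη g b (σ o).out
    rw [show ((1, b) : S × S) • (σ o).out = (h.1.1 : Equiv.Perm X) o.out from hb] at hterm'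
    apply Subtype.ext
    show (η ((g.1.1 : Equiv.Perm X) ((h.1.1 : Equiv.Perm X) o.out)))⁻¹ * (g.1.2 * h.1.2) * η o.out =
      ((η ((g.1.1 : Equiv.Perm X) (σ o).out))⁻¹ * g.1.2 * η (σ o).out) *
        ((η ((h.1.1 : Equiv.Perm X) o.out))⁻¹ * h.1.2 * η o.out)
    rw [← hterm']
    group
  rw [Finset.prod_congr rfl fun o _ => hterm o, Finset.prod_mul_distrib,
    hσ.prod_comp fun o => twTerm g o.out]

/-- Two lifts give the same product at an element fixing both. -/
theorem twProd_change [Finite X] {η η' : X → S ⧸ M} (hη : IsLift η) (hη' : IsLift η')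
    [IsMulCommutative (tbar T M)] [Fintype (Quotient (rightSetoid S X))] {g : rightComm S X}
    (h : (g, 1) ∈ tw η hcent) (h' : (g, 1) ∈ tw η' hcent) :
    ∏ o : Quotient (rightSetoid S X), twTerm ⟨_, h⟩ o.out =
      ∏ o : Quotient (rightSetoid S X), twTerm ⟨_, h'⟩ o.out := by
  classical
  let u : X → S ⧸ M := fun x => η' x * (η x)⁻¹
  have hu : ∀ (b : S) x, u (((1, b) : S × S) • x) = u x := fun b x => by
    show η' _ * (η _)⁻¹ = η' x * (η x)⁻¹
    rw [hη, hη']; group
  have hc : ∀ a ∈ tbar T M, ∀ y, y * a = a * y := fun a ha =>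
    Subgroup.mem_center_iff.1 (tbar_le_center hcent ha)
  -- split off the class of `u` modulo the image of `T`
  let s : (S ⧸ M) ⧸ tbar T M → S ⧸ M := Quotient.out
  haveI : (tbar T M).Normal := ‹T.Normal›.map _ (QuotientGroup.mk'_surjective M)
  let a : X → tbar T M := fun x => ⟨(s (QuotientGroup.mk (u x)))⁻¹ * u x, by
    rw [← QuotientGroup.eq]; exact Quotient.out_eq _⟩
  have key : ∀ x, twTerm ⟨_, h'⟩ x = (a ((g : Equiv.Perm X) x))⁻¹ * a x * twTerm ⟨_, h⟩ x := fun x => by
    have hd : (η ((g : Equiv.Perm X) x))⁻¹ * 1 * η x ∈ tbar T M := h x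
    have he : (η' ((g : Equiv.Perm X) x))⁻¹ * 1 * η' x ∈ tbar T M := h' x
    have hcc : (u ((g : Equiv.Perm X) x))⁻¹ * u x ∈ tbar T M := by
      have e : (u ((g : Equiv.Perm X) x))⁻¹ * u x = η ((g : Equiv.Perm X) x) *
          ((η' ((g : Equiv.Perm X) x))⁻¹ * 1 * η' x) * (η x)⁻¹ := by simp only [u]; group
      rw [e]
      have e2 : η ((g : Equiv.Perm X) x) * ((η' ((g : Equiv.Perm X) x))⁻¹ * 1 * η' x) * (η x)⁻¹ =
          ((η' ((g : Equiv.Perm X) x))⁻¹ * 1 * η' x) * ((η ((g : Equiv.Perm X) x))⁻¹ * 1 * η x)⁻¹ := by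
        rw [hc _ he, mul_assoc, show η ((g : Equiv.Perm X) x) * (η x)⁻¹ = η ((g : Equiv.Perm X) x) *
          ((η ((g : Equiv.Perm X) x))⁻¹ * 1 * η x)⁻¹ * (η ((g : Equiv.Perm X) x))⁻¹ by group,
          hc _ (inv_mem hd), mul_inv_cancel_right]
      rw [e2]; exact mul_mem he (inv_mem hd)
    have hq : (QuotientGroup.mk (u ((g : Equiv.Perm X) x)) : (S ⧸ M) ⧸ tbar T M) =
        QuotientGroup.mk (u x) := QuotientGroup.eq.2 hcc
    apply Subtype.ext
    show (η' ((g : Equiv.Perm X) x))⁻¹ * 1 * η' x =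
      ((s (QuotientGroup.mk (u ((g : Equiv.Perm X) x))))⁻¹ * u ((g : Equiv.Perm X) x))⁻¹ *
        ((s (QuotientGroup.mk (u x)))⁻¹ * u x) * ((η ((g : Equiv.Perm X) x))⁻¹ * 1 * η x)
    rw [hq]
    calc (η' ((g : Equiv.Perm X) x))⁻¹ * 1 * η' x
        = (η ((g : Equiv.Perm X) x))⁻¹ * ((u ((g : Equiv.Perm X) x))⁻¹ * u x) * η x := by
          simp only [u]; group
      _ = ((u ((g : Equiv.Perm X) x))⁻¹ * u x) * ((η ((g : Equiv.Perm X) x))⁻¹ * 1 * η x) := by
          rw [hc _ hcc]; group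
      _ = _ := by group
  have hainv : ∀ (b : S) x, a (((1, b) : S × S) • x) = a x := fun b x => Subtype.ext (by
    show (s (QuotientGroup.mk (u _)))⁻¹ * u _ = _
    rw [hu])
  let σ : Quotient (rightSetoid S X) → Quotient (rightSetoid S X) :=
    fun o => Quotient.mk _ ((g : Equiv.Perm X) o.out)
  have hσ : Function.Bijective σ := by
    refine Finite.injective_iff_bijective.1 fun o o' he => ?_
    obtain ⟨t, ht⟩ := Quotient.exact (s := rightSetoid S X) he
    rw [← g.2 t, (g : Equiv.Perm X).injective.eq_iff] at ht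
    rw [← o.out_eq, ← o'.out_eq]
    exact Quotient.sound (s := rightSetoid S X) ⟨t, ht⟩
  have ha : ∀ o, a ((g : Equiv.Perm X) (Quotient.out o)) = a (σ o).out := fun o => by
    obtain ⟨b, hb⟩ := Quotient.mk_out (s := rightSetoid S X) ((g : Equiv.Perm X) o.out)
    conv_lhs => rw [← hb]
    exact hainv b _
  rw [Finset.prod_congr rfl fun o _ => key (Quotient.out o), Finset.prod_mul_distrib,
    Finset.prod_mul_distrib, Finset.prod_congr rfl fun o _ => congrArg Inv.inv (ha o),
    hσ.prod_comp fun o : Quotient (rightSetoid S X) => (a o.out)⁻¹, Finset.prod_inv_distrib,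
    inv_mul_cancel, one_mul]

/-- An equivariant lift for a group acting on `X` over `S ⧸ T`. -/
theorem exists_lift [Finite X] (hMT : M ≤ T) (hfree : ∀ (t : S) (x : X), ((1, t) : S × S) • x = x → t = 1)
    {Γ : Type*} [Group Γ] (ρ : Γ →* rightComm S X) (ζ : Γ →* S ⧸ T)
    (hfix : ∀ x : X, ∃ y : S ⧸ T, ∀ (γ : Γ) (b : S),
      (ρ γ : Equiv.Perm X) (((1, b) : S × S) • x) = x → ζ γ * y * (QuotientGroup.mk' T b)⁻¹ = y) :
    ∃ η : X → S ⧸ M, IsLift η ∧ ∀ (γ : Γ) (z : S), QuotientGroup.mk' T z = ζ γ →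
      ∀ x, (η ((ρ γ : Equiv.Perm X) x))⁻¹ * QuotientGroup.mk' M z * η x ∈ tbar T M := by
  classical
  choose y hy using hfix
  let gs : Setoid X :=
    { r := fun x x' => ∃ (γ : Γ) (b : S), (ρ γ : Equiv.Perm X) (((1, b) : S × S) • x) = x'
      iseqv :=
        { refl := fun x => ⟨1, 1, by rw [map_one]; exact one_smul (S × S) x⟩
          symm := fun {x x'} ⟨γ, b, h⟩ => ⟨γ⁻¹, b⁻¹, by
            rw [← h, (ρ γ⁻¹).2, ← Equiv.Perm.mul_apply, ← Subgroup.coe_mul, ← map_mul, inv_mul_cancel,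
              map_one, Subgroup.coe_one, Equiv.Perm.one_apply, smul_smul]
            simp [← Prod.one_eq_mk]⟩
          trans := fun {x x' x''} ⟨γ, b, h⟩ ⟨γ', b', h'⟩ => ⟨γ' * γ, b' * b, by
            rw [← h', ← h, map_mul, Subgroup.coe_mul, Equiv.Perm.mul_apply, ← (ρ γ).2 b', smul_smul]
            simp⟩ } }
  have hex : ∀ x : X, ∃ (γ : Γ) (b : S),
      (ρ γ : Equiv.Perm X) (((1, b) : S × S) • (Quotient.mk gs x).out) = x := fun x =>
    Quotient.mk_out (s := gs) x
  choose gx bx hgx using hex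
  let π : X → S ⧸ T := fun x => ζ (gx x) * y (Quotient.mk gs x).out * (QuotientGroup.mk' T (bx x))⁻¹
  have hπ : ∀ (x : X) (γ : Γ) (b : S),
      (ρ γ : Equiv.Perm X) (((1, b) : S × S) • (Quotient.mk gs x).out) = x →
        π x = ζ γ * y (Quotient.mk gs x).out * (QuotientGroup.mk' T b)⁻¹ := by
    intro x γ b h
    have h1 : (ρ (γ⁻¹ * gx x) : Equiv.Perm X) (((1, b⁻¹ * bx x) : S × S) • (Quotient.mk gs x).out) =
        (Quotient.mk gs x).out := by
      rw [show ((1, b⁻¹ * bx x) : S × S) = (1, b⁻¹) * (1, bx x) by simp, mul_smul,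
        (ρ (γ⁻¹ * gx x)).2, map_mul, Subgroup.coe_mul, Equiv.Perm.mul_apply, hgx x]
      conv_lhs => rw [← h]
      rw [← Equiv.Perm.mul_apply, ← Subgroup.coe_mul, ← map_mul, inv_mul_cancel, map_one,
        Subgroup.coe_one, Equiv.Perm.one_apply, smul_smul]
      simp [← Prod.one_eq_mk]
    have h2 := hy _ _ _ h1
    show ζ (gx x) * y (Quotient.mk gs x).out * (QuotientGroup.mk' T (bx x))⁻¹ = _
    conv_rhs => rw [← h2]
    simp [map_mul, map_inv, mul_assoc]
  have hπb : ∀ (b : S) x, π (((1, b) : S × S) • x) = π x * (QuotientGroup.mk' T b)⁻¹ := fun b x => by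
    have hq : Quotient.mk gs (((1, b) : S × S) • x) = Quotient.mk gs x :=
      (Quotient.sound (s := gs) ⟨1, b, by rw [map_one]; rfl⟩).symm
    have h := hπ (((1, b) : S × S) • x) (gx x) (b * bx x) (by
      rw [hq, show ((1, b * bx x) : S × S) = (1, b) * (1, bx x) by simp, mul_smul, (ρ (gx x)).2, hgx])
    rw [h, hq, map_mul, mul_inv_rev, ← mul_assoc]
  have hπg : ∀ (γ : Γ) x, π ((ρ γ : Equiv.Perm X) x) = ζ γ * π x := fun γ x => by
    have hq : Quotient.mk gs ((ρ γ : Equiv.Perm X) x) = Quotient.mk gs x :=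
      (Quotient.sound (s := gs) ⟨γ, 1, by rw [show (((1, 1) : S × S) • x) = x from one_smul _ _]⟩).symm
    have h := hπ ((ρ γ : Equiv.Perm X) x) (γ * gx x) (bx x) (by
      rw [hq, map_mul, Subgroup.coe_mul, Equiv.Perm.mul_apply, hgx])
    rw [h, hq, map_mul]
    simp [π, mul_assoc]
  obtain ⟨crd, hcrd, hcrd'⟩ := exists_crd hfree
  let q : S ⧸ M →* S ⧸ T := QuotientGroup.map M T (MonoidHom.id S) hMT
  have hq : ∀ z : S, q (QuotientGroup.mk' M z) = QuotientGroup.mk' T z := fun _ => rfl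
  have hqker : ∀ w : S ⧸ M, q w = 1 → w ∈ tbar T M := fun w hw => by
    obtain ⟨z, rfl⟩ := QuotientGroup.mk'_surjective M w
    exact ⟨z, (QuotientGroup.eq_one_iff z).1 hw, rfl⟩
  let η : X → S ⧸ M := fun x =>
    QuotientGroup.mk' M (π (Quotient.mk (rightSetoid S X) x).out).out * (QuotientGroup.mk' M (crd x))⁻¹
  have hqη : ∀ x, q (η x) = π x := fun x => by
    show q (_ * _) = _
    rw [map_mul, map_inv, hq, hq]
    conv_rhs => rw [← hcrd x, hπb]
    congr 1
    exact Quotient.out_eq _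
  refine ⟨η, fun b x => ?_, fun γ z hz x => hqker _ ?_⟩
  · have hb : ((1, b) : S × S) • x = ((1, b * crd x) : S × S) •
        (Quotient.mk (rightSetoid S X) x).out := by
      conv_lhs => rw [← hcrd x]
      rw [smul_smul]
      simp
    have h1 := hcrd' (b * crd x) (Quotient.mk (rightSetoid S X) x)
    rw [← hb] at h1
    show _ * _ = _ * _ * _
    rw [h1.1, h1.2, map_mul, mul_inv_rev, mul_assoc]
  · rw [map_mul, map_mul, map_inv, hq, hqη, hqη, hπg, hz]
    group

/-- The twisted transfer. -/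
theorem exists_hyperfocal_extension [Finite S] (p : ℕ) [Fact p.Prime] (hS : IsPGroup p S)
    (hF : F.IsSaturated p) (hT : T = (F.hyperfocalSubgroup p).subgroupOf S) (hMT : M ≤ T)
    (hcent : ⁅T, (⊤ : Subgroup S)⁆ ≤ M) :
    ∃ m : ℕ, ¬ p ∣ m ∧ ∃ μ : S →* tbar T M, ∀ t ∈ T, (μ t : S ⧸ M) = QuotientGroup.mk' M t ^ m := by
  classical
  obtain ⟨X, _, _, hst, hsta, m, hXm, hm⟩ := exists_biset (F := F) p hS hF
  haveI := isMulCommutative_tbar hcent
  haveI : Fintype (Quotient (rightSetoid S X)) := Fintype.ofFinite _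
  have hfree : ∀ (t : S) (x : X), ((1, t) : S × S) • x = x → t = 1 := fun t x h => by
    obtain ⟨P, f, hg⟩ := hst x
    exact congrArg Prod.snd (hg.eq_one_of_left (MulAction.mem_stabilizer_iff.2 h) rfl)
  have hcard : Nat.card (Quotient (rightSetoid S X)) = m := by
    obtain ⟨crd, hcrd, hcrd'⟩ := exists_crd hfree
    have h1 : Nat.card X = Nat.card (Quotient (rightSetoid S X)) * Nat.card S := by
      rw [← Nat.card_prod]
      exact Nat.card_congr
        { toFun := fun x => (Quotient.mk (rightSetoid S X) x, crd x)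
          invFun := fun q => ((1, q.2) : S × S) • q.1.out
          left_inv := fun x => hcrd x
          right_inv := fun q => Prod.ext (hcrd' q.2 q.1).2 (hcrd' q.2 q.1).1 }
    rw [hXm, mul_comm] at h1
    exact (Nat.eq_of_mul_eq_mul_right Nat.card_pos h1).symm
  have hQp : IsPGroup p (S ⧸ T) := hS.to_quotient T
  -- a base lift
  have hbase : ∀ x : X, ∃ y : S ⧸ T, ∀ (a : S) (b : S),
      (leftRep S X a : Equiv.Perm X) (((1, b) : S × S) • x) = x →
        QuotientGroup.mk' T a * y * (QuotientGroup.mk' T b)⁻¹ = y := by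
    intro x
    obtain ⟨P, f, hg⟩ := hst x
    obtain ⟨g, hgS, hgf⟩ := exists_conj_mod_hyperfocal hS hF P f hg.1
    refine ⟨QuotientGroup.mk' T ⟨g, hgS⟩, fun a b h => ?_⟩
    rw [leftRep_apply, smul_smul] at h
    obtain ⟨h1, h2⟩ := (hg.2 _).1 (MulAction.mem_stabilizer_iff.2
      (show ((a, b) : S × S) • x = x by simpa using h))
    rw [mul_inv_eq_iff_eq_mul, ← map_mul, ← map_mul]
    refine (QuotientGroup.eq).2 ?_
    have h3 := hgf _ h1
    rw [h2] at h3
    have h4 := (Subgroup.mem_normalizer_iff.1 (inv_mem (hyperfocal_normalizer (F := F) (p := p) hgS)) _).1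
      (inv_mem h3)
    rw [hT, Subgroup.mem_subgroupOf]
    convert h4 using 1
    simp only [Subgroup.coe_mul, Subgroup.coe_inv]
    group
  obtain ⟨η₀, hη₀, hη₀'⟩ := exists_lift hMT hfree (leftRep S X) (QuotientGroup.mk' T) hbase
  obtain ⟨V₀, hV₀⟩ := exists_twProd (hcent := hcent) hη₀
  let D : S →* tw η₀ hcent := ((leftRep S X).prod (QuotientGroup.mk' M)).codRestrict _
    fun s => mem_tw_of (hη₀' s s rfl)
  have hW : ∀ t ∈ T, (leftRep S X t, (1 : S ⧸ M)) ∈ tw η₀ hcent := fun t ht =>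
    mem_tw_of fun x => by
      have := hη₀' t 1 (by rw [map_one]; exact ((QuotientGroup.eq_one_iff t).2 ht).symm) x
      rwa [map_one] at this
  refine ⟨m, hm, V₀.comp D, ?_⟩
  -- the untwisted part vanishes
  suffices hvan : ∀ t (ht : t ∈ T), V₀ ⟨_, hW t ht⟩ = 1 by
    intro t ht
    have hmem : ((1 : rightComm S X), QuotientGroup.mk' M t) ∈ tw η₀ hcent := mem_tw_of fun x => by
      show (η₀ x)⁻¹ * _ * η₀ x ∈ _
      rw [mul_assoc, ← Subgroup.mem_center_iff.1 (tbar_le_center hcent ⟨t, ht, rfl⟩) (η₀ x),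
        inv_mul_cancel_left]
      exact ⟨t, ht, rfl⟩
    have e : D t = ⟨_, hW t ht⟩ * ⟨_, hmem⟩ :=
      Subtype.ext (Prod.ext (mul_one _).symm (one_mul _).symm)
    show ((V₀ (D t) : tbar T M) : S ⧸ M) = _
    rw [e, map_mul, hvan t ht, one_mul, hV₀]
    have e2 : ∀ o : Quotient (rightSetoid S X),
        twTerm ⟨_, hmem⟩ o.out = (⟨QuotientGroup.mk' M t, t, ht, rfl⟩ : tbar T M) := fun o =>
      Subtype.ext (by
        show (η₀ o.out)⁻¹ * _ * η₀ o.out = _
        rw [mul_assoc, ← Subgroup.mem_center_iff.1 (tbar_le_center hcent ⟨t, ht, rfl⟩) (η₀ o.out),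
          inv_mul_cancel_left])
    rw [Finset.prod_congr rfl fun o _ => e2 o, Finset.prod_const, Finset.card_univ,
      ← Nat.card_eq_fintype_card, hcard, Subgroup.coe_pow]
  -- it is a homomorphism on `T`
  let W : T →* tbar T M := V₀.comp (((leftRep S X).comp T.subtype).prod 1 |>.codRestrict _
    fun t => hW t t.2)
  suffices hW1 : ∀ t : T, W t = 1 from fun t ht => hW1 ⟨t, ht⟩
  have key : ∀ (P : Subgroup Ω) (hP : P ≤ S) (α : F.autGroup P), Nat.Coprime (orderOf α) p →
      ∀ (x : P) (t : T), ((t : S) : Ω) = (x : Ω)⁻¹ * ((α : MulAut P) x : P) → W t = 1 := by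
    intro P hP α hα x t ht
    have hPfin : Finite P := finite_of_le hP
    have hf := ((mem_autGroup (F := F) hP).1 α.2).1
    obtain ⟨e, he⟩ := exists_conj_leftRep hst hsta hf
    let L : P →* rightComm S X := (leftRep S X).comp (Subgroup.inclusion hP)
    have he' : ∀ a : P, e * L a = L ((α : MulAut P) a) * e := fun a => by
      have h := he a a.2
      rw [show (⟨autFun (α : MulAut P) a, hf.apply_mem a.2⟩ : S) =
        Subgroup.inclusion hP ((α : MulAut P) a) from Subtype.ext (autFun_coe _ a)] at h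
      exact h
    -- the pairs intertwining `L`
    let R : Subgroup (rightComm S X × MulAut P) :=
      { carrier := {g | ∀ a, g.1 * L a = L (g.2 a) * g.1}
        one_mem' := fun a => by simp
        mul_mem' := fun {g g'} hg hg' a => by
          show g.1 * g'.1 * L a = L (g.2 (g'.2 a)) * (g.1 * g'.1)
          rw [mul_assoc, hg', ← mul_assoc, hg, mul_assoc]
        inv_mem' := fun {g} hg a => by
          show g.1⁻¹ * L a = L (g.2⁻¹ a) * g.1⁻¹
          rw [inv_mul_eq_iff_eq_mul, ← mul_assoc, hg, MulAut.apply_inv_self, mul_inv_cancel_right] }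
    -- replace `e` by a power of order prime to `p`
    have he0 : orderOf e ≠ 0 := (orderOf_pos e).ne'
    obtain ⟨m₀, hm₀p, hm₀⟩ : ∃ m₀, ¬ p ∣ m₀ ∧ orderOf e = p ^ (orderOf e).factorization p * m₀ :=
      ⟨_, Nat.not_dvd_ordCompl (Fact.out : p.Prime) he0, (Nat.ordProj_mul_ordCompl_eq_self _ p).symm⟩
    set k := (orderOf e).factorization p
    obtain ⟨u, hu⟩ := exists_pow_eq_self_of_coprime (x := α) (n := p ^ k) (hα.symm.pow_left k)
    let c : rightComm S X × MulAut P := (e ^ (p ^ k * u), (α : MulAut P))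
    have hcR : c ∈ R := by
      have h := pow_mem (show (e, (α : MulAut P)) ∈ R from he') (p ^ k * u)
      rw [← pow_mul] at hu
      rwa [Prod.pow_mk, ← Subgroup.coe_pow, hu] at h
    set n := m₀ * orderOf α
    have hn : ¬ p ∣ n := fun h => ((Fact.out : p.Prime).dvd_mul.1 h).elim hm₀p
      fun h => ((Fact.out : p.Prime).coprime_iff_not_dvd.1 hα.symm) h
    have hcn : c ^ n = 1 := by
      refine Prod.ext ?_ ?_
      · show (e ^ (p ^ k * u)) ^ n = 1
        rw [← pow_mul, show p ^ k * u * n = p ^ k * m₀ * (u * orderOf α) by simp only [n]; ring, ← hm₀,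
          pow_mul, pow_orderOf_eq_one, one_pow]
      · show (α : MulAut P) ^ n = 1
        rw [← Subgroup.coe_pow, show n = orderOf α * m₀ from mul_comm _ _, pow_mul, pow_orderOf_eq_one, one_pow, Subgroup.coe_one]
    let C : Subgroup (rightComm S X × MulAut P) := Subgroup.zpowers c
    have hCR : C ≤ R := Subgroup.zpowers_le.2 hcR
    have hCn : ∀ g : C, g ^ n = 1 := fun g => by
      obtain ⟨i, hi⟩ := Subgroup.mem_zpowers_iff.1 g.2
      refine Subtype.ext ?_
      rw [Subgroup.coe_pow, ← hi, ← zpow_natCast, ← zpow_mul, mul_comm, zpow_mul, zpow_natCast, hcn,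
        one_zpow, Subgroup.coe_one]
    let φ : C →* MulAut P := (MonoidHom.snd _ _).comp C.subtype
    let ρ : P ⋊[φ] C →* rightComm S X := SemidirectProduct.lift L ((MonoidHom.fst _ _).comp C.subtype)
      fun g => MonoidHom.ext fun a => by
        show L ((g.1).2 a) = (g.1).1 * L a * (g.1).1⁻¹
        rw [hCR g.2 a, mul_inv_cancel_right]
    let ζ : P ⋊[φ] C →* S ⧸ T :=
      SemidirectProduct.lift ((QuotientGroup.mk' T).comp (Subgroup.inclusion hP)) 1
        fun g => MonoidHom.ext fun a => by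
          obtain ⟨i, hi⟩ := Subgroup.mem_zpowers_iff.1 g.2
          show QuotientGroup.mk' T (Subgroup.inclusion hP ((g.1).2 a)) =
            1 * QuotientGroup.mk' T (Subgroup.inclusion hP a) * 1⁻¹
          rw [inv_one, one_mul, mul_one, ← hi]
          refine (QuotientGroup.eq.2 ?_).symm
          rw [hT, Subgroup.mem_subgroupOf]
          have h := hyperfocal_gen_mem (F := F) (p := p) hP (α ^ i)
            (zpow_mem (Transfer.mem_pResidual_of_coprime hα) i) a.2
          rw [autFun_coe] at h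
          exact h
    have hfix : ∀ y : X, ∃ z : S ⧸ T, ∀ (γ : P ⋊[φ] C) (b : S),
        (ρ γ : Equiv.Perm X) (((1, b) : S × S) • y) = y →
          ζ γ * z * (QuotientGroup.mk' T b)⁻¹ = z := by
      intro y
      obtain ⟨z, hz⟩ := hbase y
      refine ⟨z, fun γ b h => ?_⟩
      have hit : ∀ i : ℕ, (ρ (γ ^ i) : Equiv.Perm X) (((1, b ^ i) : S × S) • y) = y := by
        intro i
        induction i with
        | zero => rw [pow_zero, pow_zero, map_one]; exact one_smul (S × S) y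
        | succ i ih =>
          rw [pow_succ, map_mul, Subgroup.coe_mul, Equiv.Perm.mul_apply,
            show ((1, b ^ (i + 1)) : S × S) = (1, b ^ i) * (1, b) by simp [pow_succ], mul_smul,
            (ρ γ).2, h, ih]
      have h1 := hit n
      have hr : (γ ^ n).right = 1 := by
        rw [← SemidirectProduct.rightHom_eq_right, map_pow]
        exact hCn _
      have hγn : γ ^ n = SemidirectProduct.inl (γ ^ n).left := SemidirectProduct.ext rfl hr
      rw [hγn, SemidirectProduct.lift_inl] at h1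
      have h2 := hz _ _ h1
      have h3 : ζ (γ ^ n) * z * (QuotientGroup.mk' T (b ^ n))⁻¹ = z := by
        rw [hγn, SemidirectProduct.lift_inl]
        exact h2
      rw [map_pow, map_pow, mul_inv_eq_iff_eq_mul] at h3
      have h4 : (z⁻¹ * ζ γ * z) ^ n = (QuotientGroup.mk' T b) ^ n := by
        have h5 : ∀ i : ℕ, (z⁻¹ * ζ γ * z) ^ i = z⁻¹ * ζ γ ^ i * z := fun i => by
          induction i with
          | zero => simp
          | succ i ih => rw [pow_succ, ih, pow_succ]; group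
        rw [h5, mul_assoc, h3, inv_mul_cancel_left]
      have h6 : z⁻¹ * ζ γ * z = QuotientGroup.mk' T b := (hQp.powEquiv' hn).injective h4
      rw [← h6]
      group
    obtain ⟨η₁, hη₁, hη₁'⟩ := exists_lift hMT hfree ρ ζ hfix
    obtain ⟨V₁, hV₁⟩ := exists_twProd (hcent := hcent) hη₁
    have hE : (e ^ (p ^ k * u), (1 : S ⧸ M)) ∈ tw η₁ hcent := mem_tw_of fun y => by
      have h := hη₁' (SemidirectProduct.inr ⟨c, Subgroup.mem_zpowers c⟩) 1
        (by rw [map_one]; simp [ζ]) y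
      rw [map_one, SemidirectProduct.lift_inr] at h
      exact h
    have hA : ∀ a : P, (L a, QuotientGroup.mk' M (Subgroup.inclusion hP a)) ∈ tw η₁ hcent := fun a =>
      mem_tw_of fun y => by
        have h := hη₁' (SemidirectProduct.inl a) (Subgroup.inclusion hP a) (by simp [ζ]) y
        rw [SemidirectProduct.lift_inl] at h
        exact h
    have htt : (t : S) = (Subgroup.inclusion hP x)⁻¹ * Subgroup.inclusion hP ((α : MulAut P) x) :=
      Subtype.ext ht
    let E₁ : tw η₁ hcent := ⟨_, hE⟩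
    let A₁ : tw η₁ hcent := ⟨_, hA x⟩
    have hprod : ((A₁⁻¹ * (E₁ * A₁ * E₁⁻¹) : tw η₁ hcent) : rightComm S X × (S ⧸ M)) =
        (leftRep S X t, 1) := by
      refine Prod.ext ?_ ?_
      · show (L x)⁻¹ * (e ^ (p ^ k * u) * L x * (e ^ (p ^ k * u))⁻¹) = leftRep S X t
        rw [hcR x, mul_inv_cancel_right, htt, map_mul, map_inv]
        rfl
      · show (QuotientGroup.mk' M (Subgroup.inclusion hP x))⁻¹ *
          (1 * QuotientGroup.mk' M (Subgroup.inclusion hP x) * 1⁻¹) = 1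
        group
    have hW₁ : (leftRep S X t, (1 : S ⧸ M)) ∈ tw η₁ hcent :=
      hprod ▸ (A₁⁻¹ * (E₁ * A₁ * E₁⁻¹)).2
    have h7 : V₁ ⟨_, hW₁⟩ = 1 := by
      rw [show (⟨_, hW₁⟩ : tw η₁ hcent) = A₁⁻¹ * (E₁ * A₁ * E₁⁻¹) from Subtype.ext hprod.symm,
        map_mul, map_mul, map_mul, map_inv, map_inv, mul_comm (V₁ E₁) (V₁ A₁), mul_inv_cancel_right,
        inv_mul_cancel]
    rw [hV₁] at h7
    show V₀ ⟨_, hW t t.2⟩ = 1
    rw [hV₀, ← twProd_change hη₁ hη₀ hW₁ (hW t t.2), h7]
  -- the elements on which `W` vanishes contain the generators of the hyperfocal subgroup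
  let K : Subgroup Ω := (W.ker.map T.subtype).map S.subtype
  suffices hle : F.hyperfocalSubgroup p ≤ K by
    intro t
    obtain ⟨s, ⟨t', ht', hst'⟩, hs⟩ := hle (show ((t : S) : Ω) ∈ F.hyperfocalSubgroup p from by
      have h := t.2
      simp only [hT, Subgroup.mem_subgroupOf] at h
      exact h)
    rwa [show t = t' from Subtype.ext (by rw [← Subtype.ext hs]; exact hst'.symm)]
  rw [FusionSystem.hyperfocalSubgroup, Subgroup.closure_le]
  rintro _ ⟨P, α, x, hP, hα, rfl⟩
  rw [SetLike.mem_coe]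
  induction hα using Subgroup.closure_induction generalizing x with
  | mem β hβ =>
    have hβh := hyperfocal_gen_mem (F := F) (p := p) hP β (Subgroup.subset_closure hβ) x.2
    rw [autFun_coe] at hβh
    let s : S := (Subgroup.inclusion hP x)⁻¹ * Subgroup.inclusion hP ((β : MulAut P) x)
    have hs : s ∈ T := by rw [hT, Subgroup.mem_subgroupOf]; exact hβh
    exact ⟨s, ⟨⟨s, hs⟩, key P hP β hβ x ⟨s, hs⟩ rfl, rfl⟩, rfl⟩
  | one => simp
  | mul β γ _ _ hβ hγ =>
    have e : (x : Ω)⁻¹ * (((β * γ : F.autGroup P) : MulAut P) x : P) =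
        ((x : Ω)⁻¹ * ((γ : MulAut P) x : P)) *
          ((((γ : MulAut P) x : P) : Ω)⁻¹ * ((β : MulAut P) ((γ : MulAut P) x) : P)) := by
      rw [Subgroup.coe_mul, MulAut.mul_apply]; group
    rw [e]
    exact mul_mem (hγ x) (hβ _)
  | inv β _ hβ =>
    have h := inv_mem (hβ (((β : MulAut P)⁻¹) x))
    rw [MulAut.apply_inv_self, mul_inv_rev, inv_inv] at h
    rw [Subgroup.coe_inv]
    exact h

end Cfsg.Agent.FusTransfer
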